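import Cfsg.Agent.Mrg.ParSys.Par
import Cfsg.Agent.Mrg.ParSys.Core

-- merged: Cfsg.Agent.Mrg.ParSys.Front
section

section


/-!
# THEOREM PAR, front end: globalisation of the Borel subgroup

`U` a `p`-subgroup of `G`, `U ≤ E i`, `T i := N_{E i}(U)`.  If `T j` normalises `E i` and the `T i / U` are commuting
`p'`-groups then `Bo := ⟨T i⟩ = U H` with `Bo / U` an abelian `p'`-group, and the `P i := E i Bo` are subgroups with
`E i ∩ Bo = T i`.  `Front.link` : the chamber system of `P i ⊔ P j` over `Bo` is the one of the rank two group `F`, when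
`ψ : E i ⊔ E j → F` is surjective with `ψ⁻¹ (Borel) = N(U)`.
-/

set_option autoImplicit false

namespace Cfsg.Agent.ParSys

open Subgroup

variable {G : Type*} [Group G] {I : Type*}

/-- The local Borel subgroup `N_E(U)`. -/
def Tn (U E : Subgroup G) : Subgroup G := E ⊓ normalizer (U : Set G)

theorem mem_Tn {U E : Subgroup G} {x : G} : x ∈ Tn U E ↔ x ∈ E ∧ x ∈ normalizer (U : Set G) := Iff.rfl

/-- The global Borel subgroup. -/
def Bo (U : Subgroup G) (E : I → Subgroup G) : Subgroup G := ⨆ i, Tn U (E i)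

/-- The minimal parabolic subgroups. -/
def Pa (U : Subgroup G) (E : I → Subgroup G) (i : I) : Subgroup G := Bo U E ⊔ E i

/-- The hypotheses for the globalisation of the Borel subgroup. -/
structure Front (p : ℕ) (U : Subgroup G) (E : I → Subgroup G) : Prop where
  le : ∀ i, U ≤ E i
  isP : IsPGroup p U
  /-- `N_{E i}(U) / U` is a `p'`-group -/
  cop : ∀ i, ∀ x ∈ Tn U (E i), ∃ k : ℕ, p.Coprime k ∧ x ^ k ∈ U
  norm : ∀ i j, ∀ x ∈ Tn U (E j), x ∈ normalizer (E i : Set G)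
  comm : ∀ i j, ∀ x ∈ Tn U (E i), ∀ y ∈ Tn U (E j), x * y * x⁻¹ * y⁻¹ ∈ U

theorem conj_mem_of_normalizer {K : Subgroup G} {x y : G} (hx : x ∈ normalizer (K : Set G)) (hy : y ∈ K) :
    x * y * x⁻¹ ∈ K := (Subgroup.mem_normalizer_iff.mp hx y).mp hy

theorem conj_mem_of_normalizer' {K : Subgroup G} {x y : G} (hx : x ∈ normalizer (K : Set G)) (hy : y ∈ K) :
    x⁻¹ * y * x ∈ K := by
  have := conj_mem_of_normalizer (inv_mem hx) hy
  rwa [inv_inv] at this

/-- the elements of `N(U)` which commute with `y` modulo `U` -/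
def CenU (U : Subgroup G) (y : G) : Subgroup G where
  carrier := {x | x ∈ normalizer (U : Set G) ∧ x * y * x⁻¹ * y⁻¹ ∈ U}
  one_mem' := ⟨one_mem _, by simp⟩
  mul_mem' := by
    rintro a b ⟨ha, ha'⟩ ⟨hb, hb'⟩
    refine ⟨mul_mem ha hb, ?_⟩
    have h1 := conj_mem_of_normalizer ha hb'
    have e : a * b * y * (a * b)⁻¹ * y⁻¹ = a * (b * y * b⁻¹ * y⁻¹) * a⁻¹ * (a * y * a⁻¹ * y⁻¹) := by group
    rw [e]
    exact mul_mem h1 ha'
  inv_mem' := by
    rintro a ⟨ha, ha'⟩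
    refine ⟨inv_mem ha, ?_⟩
    have h1 := conj_mem_of_normalizer' ha (inv_mem ha')
    have e : a⁻¹ * (a * y * a⁻¹ * y⁻¹)⁻¹ * a = a⁻¹ * y * a⁻¹⁻¹ * y⁻¹ := by group
    rwa [e] at h1

theorem comm_symm {U : Subgroup G} {x y : G} (h : x * y * x⁻¹ * y⁻¹ ∈ U) : y * x * y⁻¹ * x⁻¹ ∈ U := by
  have := inv_mem h
  have e : (x * y * x⁻¹ * y⁻¹)⁻¹ = y * x * y⁻¹ * x⁻¹ := by group
  rwa [e] at this

namespace Front

variable {p : ℕ} {U : Subgroup G} {E : I → Subgroup G} (D : Front p U E)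

theorem Tn_le (i : I) : Tn U (E i) ≤ Bo U E := le_iSup (fun i => Tn U (E i)) i

theorem Bo_le_norm : Bo U E ≤ normalizer (U : Set G) := iSup_le fun _ => inf_le_right

theorem Bo_le_Pa (i : I) : Bo U E ≤ Pa U E i := le_sup_left

theorem E_le_Pa (i : I) : E i ≤ Pa U E i := le_sup_right

include D

theorem U_le_Tn (i : I) : U ≤ Tn U (E i) := le_inf (D.le i) Subgroup.le_normalizer

theorem U_le_Bo [Nonempty I] : U ≤ Bo U E :=
  (D.U_le_Tn (Classical.arbitrary I)).trans (Tn_le _)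

theorem Bo_norm (i : I) : Bo U E ≤ normalizer (E i : Set G) := iSup_le fun j x hx => D.norm i j x hx

/-- `Bo / U` is abelian -/
theorem comm_mem {x y : G} (hx : x ∈ Bo U E) (hy : y ∈ Bo U E) : x * y * x⁻¹ * y⁻¹ ∈ U := by
  have h1 : ∀ j, ∀ y, (hy : y ∈ Tn U (E j)) → Bo U E ≤ CenU U y := fun j y hy =>
    iSup_le fun i x hx => ⟨hx.2, D.comm i j x hx y hy⟩
  have h2 : Bo U E ≤ CenU U x := iSup_le fun j y hy =>
    ⟨hy.2, comm_symm (h1 j y hy hx).2⟩
  exact comm_symm (h2 hy).2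

theorem exists_pow {x : G} (hx : x ∈ Bo U E) : ∃ k : ℕ, p.Coprime k ∧ x ^ k ∈ U := by
  have hU : ∀ {x : G}, x ∈ Bo U E → ∀ {u : G}, u ∈ U → ∀ k : ℕ, (x * u) ^ k * (x ^ k)⁻¹ ∈ U := by
    intro x hx u hu k
    have hxN := Bo_le_norm hx
    induction k with
    | zero => simp
    | succ k ih =>
      have e : (x * u) ^ (k + 1) * (x ^ (k + 1))⁻¹ =
          (x * u) ^ k * (x ^ k)⁻¹ * (x ^ k * (x * u * x⁻¹) * (x ^ k)⁻¹) := by
        rw [pow_succ, pow_succ]; group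
      rw [e]
      exact mul_mem ih (conj_mem_of_normalizer (pow_mem hxN k) (conj_mem_of_normalizer hxN hu))
  have hmul : ∀ {x y : G}, x ∈ Bo U E → y ∈ Bo U E → ∀ k : ℕ, (x * y) ^ k * (x ^ k * y ^ k)⁻¹ ∈ U := by
    intro x y hx hy k
    induction k with
    | zero => simp
    | succ k ih =>
      have hc := D.comm_mem (pow_mem hy k) hx
      have e : (x * y) ^ (k + 1) * (x ^ (k + 1) * y ^ (k + 1))⁻¹ =
          (x * y) ^ k * (x ^ k * y ^ k)⁻¹ *
            (x ^ k * (y ^ k * x * (y ^ k)⁻¹ * x⁻¹) * (x ^ k)⁻¹) := by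
        rw [pow_succ, pow_succ, pow_succ]; group
      rw [e]
      exact mul_mem ih (conj_mem_of_normalizer (pow_mem (Bo_le_norm hx) k) hc)
  unfold Bo at hx
  induction hx using Subgroup.iSup_induction' with
  | hp i x hx => exact D.cop i x hx
  | h1 => exact ⟨1, Nat.coprime_one_right p, by simp⟩
  | hmul x y hx hy ihx ihy =>
    obtain ⟨k, hk, hxk⟩ := ihx
    obtain ⟨l, hl, hyl⟩ := ihy
    refine ⟨k * l, Nat.Coprime.mul_right hk hl, ?_⟩
    have h1 := hmul hx hy (k * l)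
    have h2 : x ^ (k * l) * y ^ (k * l) ∈ U := by
      rw [pow_mul, mul_comm k l, pow_mul]
      exact mul_mem (pow_mem hxk l) (pow_mem hyl k)
    have h3 := mul_mem h1 h2
    rwa [inv_mul_cancel_right] at h3

theorem mem_of_pow {x : G} (hx : x ∈ Bo U E) {a : ℕ} (ha : x ^ p ^ a = 1) : x ∈ U := by
  obtain ⟨k, hk, hxk⟩ := D.exists_pow hx
  exact Hall.mem_of_pow_mem_of_coprime (a := p ^ a) (b := k) (by rw [ha]; exact one_mem _) hxk (hk.pow_left a)

/-- **The Hall complement.** -/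
theorem exists_hall [Nonempty I] [Finite G] [hp : Fact p.Prime] :
    ∃ H : Subgroup G, Hall.HallData p (Bo U E) U H ∧ U ⊔ H = Bo U E := by
  have hUB := D.U_le_Bo
  have hn : (U.subgroupOf (Bo U E)).Normal :=
    Subgroup.normal_subgroupOf_of_le_normalizer Bo_le_norm
  have hcop : (Nat.card (U.subgroupOf (Bo U E))).Coprime (U.subgroupOf (Bo U E)).index := by
    have h1 : Nat.card (U.subgroupOf (Bo U E)) = Nat.card U :=
      Nat.card_congr (Subgroup.subgroupOfEquivOfLe hUB).toEquiv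
    obtain ⟨a, ha⟩ := (IsPGroup.iff_card (p := p)).mp D.isP
    rw [h1, ha]
    apply Nat.Coprime.pow_left
    rw [Nat.Prime.coprime_iff_not_dvd hp.out]
    intro hd
    rw [Subgroup.index_eq_card] at hd
    obtain ⟨z, hz⟩ := exists_prime_orderOf_dvd_card' (G := Bo U E ⧸ U.subgroupOf (Bo U E)) p hd
    obtain ⟨x, rfl⟩ := QuotientGroup.mk'_surjective (U.subgroupOf (Bo U E)) z
    obtain ⟨k, hk, hxk⟩ := D.exists_pow x.2
    have h2 : (QuotientGroup.mk' (U.subgroupOf (Bo U E)) x) ^ k = 1 := by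
      rw [← map_pow, QuotientGroup.mk'_apply, QuotientGroup.eq_one_iff, Subgroup.mem_subgroupOf]
      simpa using hxk
    have h3 := orderOf_dvd_of_pow_eq_one h2
    rw [hz] at h3
    exact (Nat.Prime.coprime_iff_not_dvd hp.out).1 hk h3
  obtain ⟨H', hH'⟩ := Subgroup.exists_right_complement'_of_coprime hcop
  set H : Subgroup G := H'.map (Bo U E).subtype with hH
  have hHB : H ≤ Bo U E := by
    rintro _ ⟨x, -, rfl⟩
    exact x.2
  have hsup : U ⊔ H = Bo U E := by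
    apply le_antisymm (sup_le hUB hHB)
    intro x hx
    have h1 := hH'.sup_eq_top
    have h2 : (⟨x, hx⟩ : Bo U E) ∈ U.subgroupOf (Bo U E) ⊔ H' := by rw [h1]; trivial
    have h3 := Subgroup.mem_map_of_mem (Bo U E).subtype h2
    rw [Subgroup.map_sup, Subgroup.subgroupOf_map_subtype] at h3
    have h4 : U ⊓ Bo U E ⊔ H'.map (Bo U E).subtype ≤ U ⊔ H := sup_le_sup_right inf_le_left _
    exact h4 h3
  refine ⟨H, ?_, hsup⟩
  exact {
    U_le := hUB
    H_le := hHB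
    U_norm := Bo_le_norm
    U_pgroup := D.isP
    H_cop := by
      have h1 : Nat.card H = Nat.card H' := Nat.card_congr
        (Subgroup.equivMapOfInjective H' _ (Bo U E).subtype_injective).symm.toEquiv
      have h2 : Nat.card H' = (U.subgroupOf (Bo U E)).index := by
        rw [← hH'.symm.index_eq_card]
      rw [Nat.Prime.coprime_iff_not_dvd hp.out, h1, h2, Subgroup.index_eq_card]
      intro hd
      obtain ⟨z, hz⟩ := exists_prime_orderOf_dvd_card' (G := Bo U E ⧸ U.subgroupOf (Bo U E)) p hd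
      obtain ⟨x, rfl⟩ := QuotientGroup.mk'_surjective (U.subgroupOf (Bo U E)) z
      obtain ⟨k, hk, hxk⟩ := D.exists_pow x.2
      have h2 : (QuotientGroup.mk' (U.subgroupOf (Bo U E)) x) ^ k = 1 := by
        rw [← map_pow, QuotientGroup.mk'_apply, QuotientGroup.eq_one_iff, Subgroup.mem_subgroupOf]
        simpa using hxk
      have h3 := orderOf_dvd_of_pow_eq_one h2
      rw [hz] at h3
      exact (Nat.Prime.coprime_iff_not_dvd hp.out).1 hk h3
    UH_norm := by rw [hsup]; exact Subgroup.le_normalizer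
    index := ⟨0, by rw [hsup, Subgroup.relIndex_self, pow_zero]⟩
    core := by
      intro T hTB hT _ x hx
      obtain ⟨a, ha⟩ := hT ⟨x, hx⟩
      exact D.mem_of_pow (hTB hx) (a := a) (by simpa using congrArg Subtype.val ha) }

theorem mem_Pa {i : I} {x : G} (hx : x ∈ Pa U E i) : ∃ e ∈ E i, ∃ b ∈ Bo U E, x = e * b :=
  Solvable.Glauberman.exists_mul_of_mem_sup (Bo U E) (E i) (D.Bo_norm i) hx

omit D in
theorem inf_Bo {i : I} {x : G} (hx : x ∈ E i) : x ∈ Bo U E ↔ x ∈ Tn U (E i) :=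
  ⟨fun h => ⟨hx, Bo_le_norm h⟩, fun h => Tn_le i h⟩

theorem Bo_norm_sup (i j : I) : Bo U E ≤ normalizer ((E i ⊔ E j : Subgroup G) : Set G) := by
  intro b hb
  have h : ∀ c ∈ Bo U E, ∀ x ∈ E i ⊔ E j, c * x * c⁻¹ ∈ E i ⊔ E j := by
    intro c hc x hx
    have h1 : (E i ⊔ E j) ≤ (E i ⊔ E j).comap (MulAut.conj c).toMonoidHom := by
      rw [sup_le_iff]
      constructor
      · intro y hy
        exact (le_sup_left : E i ≤ _) (conj_mem_of_normalizer (D.Bo_norm i hc) hy)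
      · intro y hy
        exact (le_sup_right : E j ≤ _) (conj_mem_of_normalizer (D.Bo_norm j hc) hy)
    exact h1 hx
  rw [Subgroup.mem_normalizer_iff]
  intro x
  refine ⟨h b hb x, fun hx => ?_⟩
  have := h b⁻¹ (inv_mem hb) _ hx
  have e : b⁻¹ * (b * x * b⁻¹) * b⁻¹⁻¹ = x := by group
  rwa [e] at this

omit D in
theorem sup_Pa (i j : I) : Pa U E i ⊔ Pa U E j = Bo U E ⊔ (E i ⊔ E j) := by
  unfold Pa
  apply le_antisymm
  · exact sup_le (sup_le_sup_left le_sup_left _) (sup_le_sup_left le_sup_right _)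
  · exact sup_le (le_sup_left.trans le_sup_left) (sup_le (le_sup_right.trans le_sup_left)
      (le_sup_right.trans le_sup_right))

theorem mem_sup_Pa {i j : I} {x : G} (hx : x ∈ Pa U E i ⊔ Pa U E j) :
    ∃ e ∈ E i ⊔ E j, ∃ b ∈ Bo U E, x = e * b := by
  rw [sup_Pa] at hx
  exact Solvable.Glauberman.exists_mul_of_mem_sup (Bo U E) (E i ⊔ E j) (D.Bo_norm_sup i j) hx

/-- **The link** between the residue of type `{i, j}` and a group `F` of rank two. -/
theorem link {i j : I} {F : Type*} [Group F] {B' : Subgroup F} {P' : I → Subgroup F}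
    (hgen' : (E i ⊔ E j) ⊓ normalizer (U : Set G) ≤ Bo U E)
    (ψ : ↥(E i ⊔ E j) →* F) (hψ : Function.Surjective ψ)
    (hB : ∀ x : ↥(E i ⊔ E j), (x : G) ∈ normalizer (U : Set G) ↔ ψ x ∈ B')
    (hP : ∀ k, k = i ∨ k = j → ∀ x : ↥(E i ⊔ E j), (x : G) ∈ Pa U E k ↔ ψ x ∈ P' k) :
    Link (Bo U E) (Pa U E) i j B' P' (fun g e => ∃ y : ↥(E i ⊔ E j), ψ y = e ∧ (y : G)⁻¹ * g ∈ Bo U E) := by
  have hB' : ∀ x : ↥(E i ⊔ E j), (x : G) ∈ Bo U E ↔ ψ x ∈ B' := fun x =>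
    ⟨fun h => (hB x).1 (Bo_le_norm h), fun h => hgen' ⟨x.2, (hB x).2 h⟩⟩
  exact {
    one := ⟨1, map_one ψ, by simp⟩
    memB := by
      rintro g e g' e' ⟨y, rfl, hy⟩ ⟨y', rfl, hy'⟩
      rw [← map_inv, ← map_mul, ← hB']
      have e1 : g⁻¹ * g' = ((y : G)⁻¹ * g)⁻¹ * ((y : G)⁻¹ * y') * ((y' : G)⁻¹ * g') := by group
      rw [e1]
      constructor
      · intro h
        have := mul_mem (mul_mem hy h) (inv_mem hy')
        have e2 : (y : G)⁻¹ * g * (((y : G)⁻¹ * g)⁻¹ * ((y : G)⁻¹ * y') * ((y' : G)⁻¹ * g')) *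
            ((y' : G)⁻¹ * g')⁻¹ = ((y⁻¹ * y' : ↥(E i ⊔ E j)) : G) := by push_cast; group
        rwa [e2] at this
      · intro h
        exact mul_mem (mul_mem (inv_mem hy) h) hy'
    memP := by
      rintro k hk g e g' e' ⟨y, rfl, hy⟩ ⟨y', rfl, hy'⟩
      have hy := Bo_le_Pa k hy
      have hy' := Bo_le_Pa k hy'
      rw [← map_inv, ← map_mul, ← hP k hk]
      have e1 : g⁻¹ * g' = ((y : G)⁻¹ * g)⁻¹ * ((y : G)⁻¹ * y') * ((y' : G)⁻¹ * g') := by group
      rw [e1]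
      constructor
      · intro h
        have := mul_mem (mul_mem hy h) (inv_mem hy')
        have e2 : (y : G)⁻¹ * g * (((y : G)⁻¹ * g)⁻¹ * ((y : G)⁻¹ * y') * ((y' : G)⁻¹ * g')) *
            ((y' : G)⁻¹ * g')⁻¹ = ((y⁻¹ * y' : ↥(E i ⊔ E j)) : G) := by push_cast; group
        rwa [e2] at this
      · intro h
        exact mul_mem (mul_mem (inv_mem hy) h) hy'
    ex := by
      rintro k hk g e ⟨y, rfl, hy⟩ x hx
      obtain ⟨c, hc, b, hb, h1⟩ := D.mem_Pa (i := k) (mul_mem (Bo_le_Pa k hy) hx)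
      have hc' : c ∈ E i ⊔ E j := by
        rcases hk with rfl | rfl
        · exact (le_sup_left : E _ ≤ _) hc
        · exact (le_sup_right : E _ ≤ _) hc
      refine ⟨ψ (y * ⟨c, hc'⟩), y * ⟨c, hc'⟩, rfl, ?_⟩
      have e1 : ((y * ⟨c, hc'⟩ : ↥(E i ⊔ E j)) : G)⁻¹ * (g * x) = c⁻¹ * ((y : G)⁻¹ * g * x) := by
        push_cast; group
      rw [e1, h1, inv_mul_cancel_left]
      exact hb
    sur := by
      intro e
      obtain ⟨y, rfl⟩ := hψ e
      exact ⟨y, y, rfl, by simp⟩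
    act := by
      intro z
      obtain ⟨w, rfl⟩ := hψ z
      refine ⟨w, ?_⟩
      rintro g e ⟨y, rfl, hy⟩
      refine ⟨w * y, map_mul ψ w y, ?_⟩
      have e1 : ((w * y : ↥(E i ⊔ E j)) : G)⁻¹ * (w * g) = (y : G)⁻¹ * g := by push_cast; group
      rwa [e1] }

end Front

end Cfsg.Agent.ParSys

end

section


/-!
# Parabolic systems: the pairs whose residue is a product of two rank ones

* `Digon B P Q` : `P Q = Q P` and `P ⊓ Q ≤ B`; it gives the fields `unq`, `braid` and `g1` of `ParSys.Data` for `m = 2`.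
* `Pair B P Q L M` : `P = L B`, `Q = M B`, `B` normalises `L` and `M`, `[L, M] ≤ B`; it gives a digon if `P ≠ Q`.
* `pan_commutator` : the torus of one of the two factors gives (G1).
-/

set_option autoImplicit false
set_option linter.style.haveILetI false

namespace Cfsg.Agent.ParSys

open Subgroup

variable {G : Type*} [Group G] {I : Type*}

/-- The residue generated by the panels `P / B` and `Q / B` is a digon. -/
structure Digon (B P Q : Subgroup G) : Prop where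
  left : B ≤ P
  right : B ≤ Q
  comm : ∀ a ∈ P, ∀ b ∈ Q, ∃ b' ∈ Q, ∃ a' ∈ P, a * b = b' * a'
  inf : ∀ x ∈ P, x ∈ Q → x ∈ B

namespace Digon

variable {B P Q : Subgroup G}

theorem symm (D : Digon B P Q) : Digon B Q P where
  left := D.right
  right := D.left
  comm := by
    intro a ha b hb
    obtain ⟨b', hb', a', ha', e⟩ := D.comm b⁻¹ (inv_mem hb) a⁻¹ (inv_mem ha)
    refine ⟨a'⁻¹, inv_mem ha', b'⁻¹, inv_mem hb', ?_⟩
    have := congrArg (·⁻¹) e
    simpa [mul_inv_rev] using this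
  inf := fun x h1 h2 => D.inf x h2 h1

/-- `y ∈ B` which fixes the end of the gallery `B, n B, n n' B` fixes `n B`. -/
theorem unq_aux (D : Digon B P Q) {n n' : G} (hn : n ∈ P) (hn' : n' ∈ Q) {y : G} (hy : y ∈ B)
    (h : (n * n')⁻¹ * y * (n * n') ∈ B) : n⁻¹ * y * n ∈ B := by
  refine D.inf _ (mul_mem (mul_mem (inv_mem hn) (D.left hy)) hn) ?_
  have e : n⁻¹ * y * n = n' * ((n * n')⁻¹ * y * (n * n')) * n'⁻¹ := by group
  rw [e]
  exact mul_mem (mul_mem hn' (D.right h)) (inv_mem hn')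

/-- `n n' B = n' n B` -/
theorem braid_aux (D : Digon B P Q) {H₀ : Subgroup G} (hH : H₀ ≤ B)
    {n n' : G} (hn : n ∈ P) (hnH : n ∈ normalizer (H₀ : Set G))
    (hn' : n' ∈ Q) (hnB' : n' ∉ B) (hnH' : n' ∈ normalizer (H₀ : Set G))
    (huQ : ∀ g ∈ Q, g ∉ B → (∀ a ∈ H₀, g⁻¹ * a * g ∈ B) → g⁻¹ * n' ∈ B) :
    (n * n')⁻¹ * (n' * n) ∈ P := by
  obtain ⟨b, hb, a, ha, e⟩ := D.comm n hn n' hn'
  have hbB : b ∉ B := by
    intro h
    apply hnB'
    refine D.inf _ ?_ hn'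
    have : n' = n⁻¹ * (b * a) := by rw [← e]; group
    rw [this]
    exact mul_mem (inv_mem hn) (mul_mem (D.left h) ha)
  have h1 : b⁻¹ * n' ∈ B := by
    refine huQ b hb hbB fun h hh => ?_
    refine D.inf _ ?_ (mul_mem (mul_mem (inv_mem hb) (D.right (hH hh))) hb)
    have hnn : n * n' ∈ normalizer (H₀ : Set G) := mul_mem hnH hnH'
    have h2 : (n * n')⁻¹ * h * (n * n') ∈ H₀ := by
      have := (mem_normalizer_iff.mp (inv_mem hnn) h).mp hh
      simpa using this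
    have e2 : b⁻¹ * h * b = a * ((n * n')⁻¹ * h * (n * n')) * a⁻¹ := by rw [e]; group
    rw [e2]
    exact mul_mem (mul_mem ha (D.left (hH h2))) (inv_mem ha)
  have e3 : (n * n')⁻¹ * (n' * n) = a⁻¹ * (b⁻¹ * n') * n := by rw [e]; group
  rw [e3]
  exact mul_mem (mul_mem (inv_mem ha) (D.left h1)) hn

/-- the braid relation, `m = 2` -/
theorem braid_mem (D : Digon B P Q) {H₀ : Subgroup G} (hH : H₀ ≤ B)
    {n n' : G} (hn : n ∈ P) (hnB : n ∉ B) (hnH : n ∈ normalizer (H₀ : Set G))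
    (hn' : n' ∈ Q) (hnB' : n' ∉ B) (hnH' : n' ∈ normalizer (H₀ : Set G))
    (huP : ∀ g ∈ P, g ∉ B → (∀ a ∈ H₀, g⁻¹ * a * g ∈ B) → g⁻¹ * n ∈ B)
    (huQ : ∀ g ∈ Q, g ∉ B → (∀ a ∈ H₀, g⁻¹ * a * g ∈ B) → g⁻¹ * n' ∈ B) :
    (n * n')⁻¹ * (n' * n) ∈ B ⊓ normalizer (H₀ : Set G) := by
  refine ⟨D.inf _ (D.braid_aux hH hn hnH hn' hnB' hnH' huQ) ?_, ?_⟩
  · have h := D.symm.braid_aux hH hn' hnH' hn hnB hnH huP
    have := inv_mem h
    simpa [mul_assoc] using this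
  · exact (normalizer (H₀ : Set G)).mul_mem ((normalizer (H₀ : Set G)).inv_mem (mul_mem hnH hnH')) (mul_mem hnH' hnH)

/-- The key step of (G1): an element of `T` which fixes `n B` and moves the chamber of `Q / B` below `n n' B` to the one
below `n x B`. -/
theorem step (D : Digon B P Q) {T : Subgroup G} {n n' x : G} (hn' : n' ∈ Q)
    (hx : x ∈ Q) {b a b' a' : G} (ha : a ∈ P) (ha' : a' ∈ P) (e : n * n' = b * a)
    (e' : n * x = b' * a') {s : G} (hs : s ∈ T) (hsn : n⁻¹ * s * n ∈ B) (hsb : b'⁻¹ * s * b ∈ B) :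
    ∃ t ∈ stp B n T, (t * n')⁻¹ * x ∈ B := by
  refine ⟨n⁻¹ * s * n, ⟨?_, hsn⟩, ?_⟩
  · show n * (n⁻¹ * s * n) * n⁻¹ ∈ T
    have : n * (n⁻¹ * s * n) * n⁻¹ = s := by group
    rwa [this]
  · refine D.inf _ ?_ ?_
    · have e1 : (n⁻¹ * s * n * n')⁻¹ * x = a⁻¹ * (b'⁻¹ * s * b)⁻¹ * a' := by
        have e2 : (n⁻¹ * s * n * n')⁻¹ * x = (n * n')⁻¹ * s⁻¹ * (n * x) := by group
        rw [e2, e, e']; group
      rw [e1]
      exact mul_mem (mul_mem (inv_mem ha) (D.left (inv_mem hsb))) ha'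
    · exact mul_mem (inv_mem (mul_mem (D.right hsn) hn')) hx

/-- (G1) from a subgroup `T₁` of `T` which is transitive on the chambers `≠ B` of `P / B` and fixes `Q / B`. -/
theorem g1_left (D : Digon B P Q) {T T₁ : Subgroup G} (hT : T ≤ B) (hT₁ : T₁ ≤ T) {n n' : G}
    (hn : n ∈ P) (hnB : n ∉ B) (hn' : n' ∈ Q) (hnB' : n' ∉ B)
    (hQ : ∀ x ∈ Q, x ∉ B → ∃ t ∈ T, (t * n')⁻¹ * x ∈ B)
    (hP : ∀ x ∈ P, x ∉ B → ∃ t ∈ T₁, (t * n)⁻¹ * x ∈ B)
    (hfix : ∀ t ∈ T₁, ∀ x ∈ Q, x⁻¹ * t * x ∈ B) :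
    ∀ x ∈ Q, x ∉ B → ∃ t ∈ stp B n T, (t * n')⁻¹ * x ∈ B := by
  intro x hx hxB
  obtain ⟨b, hb, a, ha, e⟩ := D.comm n hn n' hn'
  obtain ⟨b', hb', a', ha', e'⟩ := D.comm n hn x hx
  have hbB : b ∉ B := by
    intro h
    apply hnB'
    refine D.inf _ ?_ hn'
    have : n' = n⁻¹ * (b * a) := by rw [← e]; group
    rw [this]
    exact mul_mem (inv_mem hn) (mul_mem (D.left h) ha)
  have hbB' : b' ∉ B := by
    intro h
    apply hxB
    refine D.inf _ ?_ hx
    have : x = n⁻¹ * (b' * a') := by rw [← e']; group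
    rw [this]
    exact mul_mem (inv_mem hn) (mul_mem (D.left h) ha')
  obtain ⟨t, ht, h1⟩ := hQ b hb hbB
  obtain ⟨t', ht', h2⟩ := hQ b' hb' hbB'
  -- `s = t' t⁻¹` moves `b B` to `b' B`
  have hs : t' * t⁻¹ ∈ T := mul_mem ht' (inv_mem ht)
  have hsb : b'⁻¹ * (t' * t⁻¹) * b ∈ B := by
    have : b'⁻¹ * (t' * t⁻¹) * b = ((t' * n')⁻¹ * b')⁻¹ * ((t * n')⁻¹ * b) := by group
    rw [this]
    exact mul_mem (inv_mem h2) h1
  have hsn : t' * t⁻¹ * n ∈ P := mul_mem (D.left (hT hs)) hn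
  have hsn' : t' * t⁻¹ * n ∉ B := fun h => hnB (by
    have := mul_mem (inv_mem (hT hs)) h
    rwa [inv_mul_cancel_left] at this)
  obtain ⟨r, hr, h3⟩ := hP _ hsn hsn'
  refine D.step hn' hx ha ha' e e' (s := r⁻¹ * (t' * t⁻¹)) (mul_mem (inv_mem (hT₁ hr)) hs) ?_ ?_
  · have : n⁻¹ * (r⁻¹ * (t' * t⁻¹)) * n = (r * n)⁻¹ * (t' * t⁻¹ * n) := by group
    rw [this]
    exact h3
  · have : b'⁻¹ * (r⁻¹ * (t' * t⁻¹)) * b = (b'⁻¹ * r⁻¹ * b') * (b'⁻¹ * (t' * t⁻¹) * b) := by group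
    rw [this]
    exact mul_mem (hfix _ (inv_mem hr) _ hb') hsb

/-- (G1) from a subgroup `T₁` of `T` which is transitive on the chambers `≠ B` of `Q / B` and fixes `P / B`. -/
theorem g1_right (D : Digon B P Q) {T T₁ : Subgroup G} (hT₁ : T₁ ≤ T) {n n' : G}
    (hn : n ∈ P) (hn' : n' ∈ Q) (hnB' : n' ∉ B)
    (hQ : ∀ x ∈ Q, x ∉ B → ∃ t ∈ T₁, (t * n')⁻¹ * x ∈ B)
    (hfix : ∀ t ∈ T₁, ∀ x ∈ P, x⁻¹ * t * x ∈ B) :
    ∀ x ∈ Q, x ∉ B → ∃ t ∈ stp B n T, (t * n')⁻¹ * x ∈ B := by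
  intro x hx hxB
  obtain ⟨b, hb, a, ha, e⟩ := D.comm n hn n' hn'
  obtain ⟨b', hb', a', ha', e'⟩ := D.comm n hn x hx
  have hbB : b ∉ B := by
    intro h
    apply hnB'
    refine D.inf _ ?_ hn'
    have : n' = n⁻¹ * (b * a) := by rw [← e]; group
    rw [this]
    exact mul_mem (inv_mem hn) (mul_mem (D.left h) ha)
  have hbB' : b' ∉ B := by
    intro h
    apply hxB
    refine D.inf _ ?_ hx
    have : x = n⁻¹ * (b' * a') := by rw [← e']; group
    rw [this]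
    exact mul_mem (inv_mem hn) (mul_mem (D.left h) ha')
  obtain ⟨t, ht, h1⟩ := hQ b hb hbB
  obtain ⟨t', ht', h2⟩ := hQ b' hb' hbB'
  have hs : t' * t⁻¹ ∈ T₁ := mul_mem ht' (inv_mem ht)
  refine D.step hn' hx ha ha' e e' (hT₁ hs) (hfix _ hs _ hn) ?_
  have : b'⁻¹ * (t' * t⁻¹) * b = ((t' * n')⁻¹ * b')⁻¹ * ((t * n')⁻¹ * b) := by group
  rw [this]
  exact mul_mem (inv_mem h2) h1

end Digon

/-! ### The fields of `ParSys.Data` -/

namespace Digon

variable {B : Subgroup G} {P : I → Subgroup G} {n : I → G} {i j : I}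

/-- field `unq` -/
theorem unq (D : Digon B (P i) (P j)) (hi : n i ∈ P i) (hj : n j ∈ P j) {m : ℕ} (hm : m = 2) :
    ∀ y ∈ B, (nw n (alt i j m))⁻¹ * y * nw n (alt i j m) ∈ B →
      ∀ k ≤ m, (nw n (alt i j k))⁻¹ * y * nw n (alt i j k) ∈ B := by
  subst hm
  intro y hy h k hk
  have h' : (n i * n j)⁻¹ * y * (n i * n j) ∈ B := by
    simpa [alt_cons] using h
  rcases k with _ | _ | _ | k
  · simpa using hy
  · have := D.unq_aux hi hj hy h'
    simpa [alt_cons] using this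
  · exact h
  · omega

/-- field `braid` -/
theorem braid (D : Digon B (P i) (P j)) {H₀ : Subgroup G} (hH : H₀ ≤ B)
    (hi : n i ∈ P i) (hiB : n i ∉ B) (hiH : n i ∈ normalizer (H₀ : Set G))
    (hj : n j ∈ P j) (hjB : n j ∉ B) (hjH : n j ∈ normalizer (H₀ : Set G))
    (hui : ∀ g ∈ P i, g ∉ B → (∀ a ∈ H₀, g⁻¹ * a * g ∈ B) → g⁻¹ * n i ∈ B)
    (huj : ∀ g ∈ P j, g ∉ B → (∀ a ∈ H₀, g⁻¹ * a * g ∈ B) → g⁻¹ * n j ∈ B) {m : ℕ} (hm : m = 2) :
    (nw n (alt i j m))⁻¹ * nw n (alt j i m) ∈ B ⊓ normalizer (H₀ : Set G) := by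
  subst hm
  have := D.braid_mem hH hi hiB hiH hj hjB hjH hui huj
  simpa [alt_cons] using this

/-- field `g1`, with a subgroup which is transitive on the first panel and fixes the second one -/
theorem tr_left (D : Digon B (P i) (P j)) {T T₁ : Subgroup G} (hT : T ≤ B) (hT₁ : T₁ ≤ T)
    (hi : n i ∈ P i) (hiB : n i ∉ B) (hj : n j ∈ P j) (hjB : n j ∉ B)
    (hTi : Pan B P n T i) (hTj : Pan B P n T j) (hP : Pan B P n T₁ i)
    (hfix : ∀ t ∈ T₁, ∀ x ∈ P j, x⁻¹ * t * x ∈ B) {m : ℕ} (hm : m = 2) : Tr B P n T (alt i j m) := by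
  subst hm
  exact ⟨hTi, D.g1_left hT hT₁ hi hiB hj hjB hTj hP hfix, trivial⟩

/-- field `g1`, with a subgroup which is transitive on the second panel and fixes the first one -/
theorem tr_right (D : Digon B (P i) (P j)) {T T₁ : Subgroup G} (hT₁ : T₁ ≤ T)
    (hi : n i ∈ P i) (hj : n j ∈ P j) (hjB : n j ∉ B)
    (hTi : Pan B P n T i) (hP : Pan B P n T₁ j)
    (hfix : ∀ t ∈ T₁, ∀ x ∈ P i, x⁻¹ * t * x ∈ B) {m : ℕ} (hm : m = 2) : Tr B P n T (alt i j m) := by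
  subst hm
  exact ⟨hTi, D.g1_right hT₁ hi hj hjB hP hfix, trivial⟩

end Digon

/-! ### Pairs of commuting factors -/

/-- `P = L B`, `Q = M B` and `[L, M] ≤ B` -/
structure Pair (B P Q L M : Subgroup G) : Prop where
  left : B ≤ P
  right : B ≤ Q
  L_le : L ≤ P
  M_le : M ≤ Q
  eqP : ∀ x ∈ P, ∃ l ∈ L, ∃ b ∈ B, x = l * b
  eqQ : ∀ x ∈ Q, ∃ l ∈ M, ∃ b ∈ B, x = l * b
  normL : B ≤ normalizer (L : Set G)
  normM : B ≤ normalizer (M : Set G)
  comm : ∀ x ∈ L, ∀ y ∈ M, x⁻¹ * y⁻¹ * x * y ∈ B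

namespace Pair

variable {B P Q L M : Subgroup G}

theorem symm (D : Pair B P Q L M) : Pair B Q P M L where
  left := D.right
  right := D.left
  L_le := D.M_le
  M_le := D.L_le
  eqP := D.eqQ
  eqQ := D.eqP
  normL := D.normM
  normM := D.normL
  comm := fun x hx y hy => by
    have := inv_mem (D.comm y hy x hx)
    have e : x⁻¹ * y⁻¹ * x * y = (y⁻¹ * x⁻¹ * y * x)⁻¹ := by group
    rw [e]; exact this

/-- `L ⊓ B` fixes `Q / B` -/
theorem fix (D : Pair B P Q L M) {t : G} (ht : t ∈ L) (htB : t ∈ B) {x : G} (hx : x ∈ Q) : x⁻¹ * t * x ∈ B := by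
  obtain ⟨y, hy, b, hb, rfl⟩ := D.eqQ x hx
  have h := D.comm t ht y hy
  have e : (y * b)⁻¹ * t * (y * b) = b⁻¹ * (t * (t⁻¹ * y⁻¹ * t * y)) * b := by group
  rw [e]
  exact mul_mem (mul_mem (inv_mem hb) (mul_mem htB h)) hb

theorem digon (D : Pair B P Q L M) (hinf : ∀ x ∈ P, x ∈ Q → x ∈ B) : Digon B P Q where
  left := D.left
  right := D.right
  comm := by
    intro a ha b hb
    obtain ⟨l, hl, b₁, hb₁, rfl⟩ := D.eqP a ha
    obtain ⟨y, hy, b₂, hb₂, rfl⟩ := D.eqQ b hb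
    have hy' : b₁ * y * b₁⁻¹ ∈ M := (mem_normalizer_iff.mp (D.normM hb₁) y).mp hy
    refine ⟨b₁ * y * b₁⁻¹, D.M_le hy', l * (l⁻¹ * (b₁ * y * b₁⁻¹)⁻¹ * l * (b₁ * y * b₁⁻¹)) * (b₁ * b₂), ?_, by group⟩
    exact mul_mem (mul_mem (D.L_le hl) (D.left (D.comm l hl _ hy'))) (D.left (mul_mem hb₁ hb₂))
  inf := hinf

end Pair

/-- If `U ≤ B` is transitive on the chambers `≠ B` of `P / B`, then `B` is maximal in `P`. -/
theorem le_or_inf_of_pan {B P Q U : Subgroup G} (hQ : B ≤ Q) (hU : U ≤ B) {n : G}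
    (hpan : ∀ x ∈ P, x ∉ B → ∃ u ∈ U, (u * n)⁻¹ * x ∈ B) : P ≤ Q ∨ ∀ x ∈ P, x ∈ Q → x ∈ B := by
  by_cases h : ∀ x ∈ P, x ∈ Q → x ∈ B
  · exact Or.inr h
  · left
    push Not at h
    obtain ⟨x, hx, hxQ, hxB⟩ := h
    obtain ⟨u, hu, h1⟩ := hpan x hx hxB
    have hn : n ∈ Q := by
      have : n = u⁻¹ * x * ((u * n)⁻¹ * x)⁻¹ := by group
      rw [this]
      exact mul_mem (mul_mem (hQ (inv_mem (hU hu))) hxQ) (hQ (inv_mem h1))
    intro y hy
    by_cases hyB : y ∈ B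
    · exact hQ hyB
    · obtain ⟨v, hv, h2⟩ := hpan y hy hyB
      have : y = v * n * ((v * n)⁻¹ * y) := by group
      rw [this]
      exact mul_mem (mul_mem (hQ (hU hv)) hn) (hQ h2)

/-- Two panels with transitive groups are equal or meet in `B`. -/
theorem inf_of_pan {B P Q U : Subgroup G} (hP : B ≤ P) (hQ : B ≤ Q) (hU : U ≤ B) {n n' : G}
    (hpan : ∀ x ∈ P, x ∉ B → ∃ u ∈ U, (u * n)⁻¹ * x ∈ B)
    (hpan' : ∀ x ∈ Q, x ∉ B → ∃ u ∈ U, (u * n')⁻¹ * x ∈ B) (hne : P ≠ Q) : ∀ x ∈ P, x ∈ Q → x ∈ B := by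
  rcases le_or_inf_of_pan hQ hU hpan with h | h
  · rcases le_or_inf_of_pan hP hU hpan' with h' | h'
    · exact absurd (le_antisymm h h') hne
    · exact fun x h1 h2 => h' x h2 h1
  · exact h

/-! ### The torus of one factor -/

/-- the subgroup generated by the commutators of `T` and `A` -/
def cmt (T A : Subgroup G) : Subgroup G := closure {x | ∃ t ∈ T, ∃ a ∈ A, x = t * a * t⁻¹ * a⁻¹}

theorem cmt_le_left {T A : Subgroup G} (h : A ≤ normalizer (T : Set G)) : cmt T A ≤ T := by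
  unfold cmt
  rw [closure_le]
  rintro _ ⟨t, ht, a, ha, rfl⟩
  have : t * a * t⁻¹ * a⁻¹ = t * (a * t⁻¹ * a⁻¹) := by group
  rw [SetLike.mem_coe, this]
  exact mul_mem ht ((mem_normalizer_iff.mp (h ha) _).mp (inv_mem ht))

theorem cmt_le_right {T A L : Subgroup G} (hA : A ≤ L) (h : T ≤ normalizer (L : Set G)) : cmt T A ≤ L := by
  unfold cmt
  rw [closure_le]
  rintro _ ⟨t, ht, a, ha, rfl⟩
  rw [SetLike.mem_coe]
  exact mul_mem ((mem_normalizer_iff.mp (h ht) _).mp (hA ha)) (inv_mem (hA ha))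

/-- The hypothesis on one panel: `K` is normal in `P`, contained in `B`, the group `U` is regular on the
chambers `≠ B` modulo `K`, and `U = [U, A] K` modulo `K`. -/
structure Torus (B P U A K : Subgroup G) (n : G) : Prop where
  K_le : K ≤ B
  K_norm : P ≤ normalizer (K : Set G)
  reg : ∀ u ∈ U, n⁻¹ * u * n ∈ B → u ∈ K
  A_le : A ≤ B
  gen : U ≤ cmt U A ⊔ K

theorem Torus.mono {B P U A A' K : Subgroup G} {n : G} (D : Torus B P U A K n) (h : A ≤ A') (h' : A' ≤ B) :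
    Torus B P U A' K n where
  K_le := D.K_le
  K_norm := D.K_norm
  reg := D.reg
  A_le := h'
  gen := D.gen.trans (sup_le_sup_right (Subgroup.closure_mono (by
    rintro _ ⟨t, ht, a, ha, rfl⟩
    exact ⟨t, ht, a, h ha, rfl⟩)) _)

/-- `[T, A]` is transitive on the panel if `T` is. -/
theorem Torus.pan {B P U A K : Subgroup G} {n : G} (D : Torus B P U A K n) (hBP : B ≤ P) (hU : U ≤ B)
    (hn : n ∈ P) (hnB : n ∉ B)
    {T : Subgroup G} (hT : T ≤ U) (hA : A ≤ normalizer (T : Set G))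
    (hU' : ∀ x ∈ P, x ∉ B → ∃ u ∈ U, (u * n)⁻¹ * x ∈ B)
    (hpan : ∀ x ∈ P, x ∉ B → ∃ t ∈ T, (t * n)⁻¹ * x ∈ B) :
    ∀ x ∈ P, x ∉ B → ∃ t ∈ cmt T A, (t * n)⁻¹ * x ∈ B := by
  have hKB : B ≤ normalizer (K : Set G) := hBP.trans D.K_norm
  have hTU : ∀ u ∈ U, ∃ t ∈ T, ∃ k ∈ K, u = t * k := by
    intro u hu
    have h1 : u * n ∈ P := mul_mem (hBP (hU hu)) hn
    have h2 : u * n ∉ B := fun h => hnB (by
      have := mul_mem (inv_mem (hU hu)) h
      rwa [inv_mul_cancel_left] at this)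
    obtain ⟨t, ht, h3⟩ := hpan _ h1 h2
    refine ⟨t, ht, t⁻¹ * u, D.reg _ (mul_mem (inv_mem (hT ht)) hu) ?_, by group⟩
    have : n⁻¹ * (t⁻¹ * u) * n = (t * n)⁻¹ * (u * n) := by group
    rw [this]; exact h3
  have hcT : cmt T A ≤ B := (cmt_le_left hA).trans (hT.trans hU)
  have hle : cmt U A ≤ cmt T A ⊔ K := by
    unfold cmt
    rw [closure_le]
    rintro _ ⟨u, hu, a, ha, rfl⟩
    obtain ⟨t, ht, k, hk, rfl⟩ := hTU u hu
    have e : t * k * a * (t * k)⁻¹ * a⁻¹ =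
        (t * (k * (a * k⁻¹ * a⁻¹)) * t⁻¹) * (t * a * t⁻¹ * a⁻¹) := by group
    rw [SetLike.mem_coe, e]
    refine mul_mem (mem_sup_right ?_) (mem_sup_left (subset_closure ⟨t, ht, a, ha, rfl⟩))
    have hk1 : k * (a * k⁻¹ * a⁻¹) ∈ K :=
      mul_mem hk ((mem_normalizer_iff.mp (hKB (D.A_le ha)) _).mp (inv_mem hk))
    exact (mem_normalizer_iff.mp (hKB (hU (hT ht))) _).mp hk1
  have hle2 : U ≤ cmt T A ⊔ K := D.gen.trans (sup_le hle le_sup_right)
  intro x hx hxB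
  obtain ⟨u, hu, h1⟩ := hU' x hx hxB
  obtain ⟨k, hk, c, hc, rfl⟩ := Solvable.Glauberman.exists_mul_of_mem_sup (cmt T A) K (hcT.trans hKB) (hle2 hu)
  refine ⟨c, hc, ?_⟩
  have h2 : c⁻¹ * k * c ∈ K := by
    have := (mem_normalizer_iff.mp (hKB (inv_mem (hcT hc))) k).mp hk
    simpa using this
  have h3 : n⁻¹ * (c⁻¹ * k * c) * n ∈ K := by
    have := (mem_normalizer_iff.mp (D.K_norm (inv_mem hn)) _).mp h2
    simpa using this
  have e : (c * n)⁻¹ * x = (n⁻¹ * (c⁻¹ * k * c) * n) * ((k * c * n)⁻¹ * x) := by group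
  rw [e]
  exact mul_mem (D.K_le h3) h1

/-! ### (G1) for a pair of commuting factors -/

/-- field `g1` at `(i, j)`; the first factor has a torus. -/
theorem Pair.g1_left {B : Subgroup G} {P : I → Subgroup G} {n : I → G} {i j : I} {L M U H₀ A K : Subgroup G}
    (D : Pair B (P i) (P j) L M) (hinf : ∀ x ∈ P i, x ∈ P j → x ∈ B) (hU : U ≤ B)
    (hi : n i ∈ P i) (hiB : n i ∉ B) (hj : n j ∈ P j) (hjB : n j ∉ B)
    (hUi : Pan B P n U i) (hAL : A ≤ L) (hAH : A ≤ H₀) (hA : Torus B (P i) U A K (n i))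
    {T : Subgroup G} (hT : Hall.HallData.Adm U H₀ T) (hTi : Pan B P n T i) (hTj : Pan B P n T j)
    {m : ℕ} (hm : m = 2) : Tr B P n T (alt i j m) := by
  have hcT : cmt T A ≤ T := cmt_le_left (hAH.trans hT.2)
  refine (D.digon hinf).tr_left (hT.1.trans hU) hcT hi hiB hj hjB hTi hTj
    (hA.pan D.left hU hi hiB hT.1 (hAH.trans hT.2) hUi hTi) ?_ hm
  intro t ht x hx
  exact D.fix (cmt_le_right hAL ((hT.1.trans hU).trans D.normL) ht) (hU (hT.1 (hcT ht))) hx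

/-- field `g1` at `(i, j)`; the second factor has a torus. -/
theorem Pair.g1_right {B : Subgroup G} {P : I → Subgroup G} {n : I → G} {i j : I} {L M U H₀ A K : Subgroup G}
    (D : Pair B (P i) (P j) L M) (hinf : ∀ x ∈ P i, x ∈ P j → x ∈ B) (hU : U ≤ B)
    (hi : n i ∈ P i) (hj : n j ∈ P j) (hjB : n j ∉ B)
    (hUj : Pan B P n U j) (hAM : A ≤ M) (hAH : A ≤ H₀) (hA : Torus B (P j) U A K (n j))
    {T : Subgroup G} (hT : Hall.HallData.Adm U H₀ T) (hTi : Pan B P n T i) (hTj : Pan B P n T j)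
    {m : ℕ} (hm : m = 2) : Tr B P n T (alt i j m) := by
  have hcT : cmt T A ≤ T := cmt_le_left (hAH.trans hT.2)
  refine (D.digon hinf).tr_right hcT hi hj hjB hTi
    (hA.pan D.right hU hj hjB hT.1 (hAH.trans hT.2) hUj hTj) ?_ hm
  intro t ht x hx
  exact D.symm.fix (cmt_le_right hAM ((hT.1.trans hU).trans D.normM) ht) (hU (hT.1 (hcT ht))) hx

/-! ### The torus of a perfect factor -/

open scoped commutatorElement in
/-- A TI subgroup `X` with `N(X) = X A`, `|A|` prime to `p`: if `X ≤ Y'`, then `X = [X, A]`. -/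
theorem le_cmt_of_ti {Y : Type*} [Group Y] [Finite Y] {p : ℕ} [Fact p.Prime] (X A : Subgroup Y)
    (hX : IsPGroup p X) (hA : p.Coprime (Nat.card A)) (hAX : A ≤ normalizer (X : Set Y))
    (hTI : ∀ x ∈ X, x ≠ 1 → ∀ g : Y, g * x * g⁻¹ ∈ X → ∃ y ∈ X, ∃ a ∈ A, g = y * a)
    (hcomm : X ≤ commutator Y) : X ≤ cmt X A := by
  rcases eq_or_ne X ⊥ with hbot | hbot
  · rw [hbot]; exact bot_le
  obtain ⟨x₀, hx₀, hx₀1⟩ := (X.bot_or_exists_ne_one).resolve_left hbot
  -- `X` is a Sylow subgroup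
  have hmax : ∀ {R : Subgroup Y}, IsPGroup p R → X ≤ R → R = X := by
    intro R hR hXR
    by_contra hne
    have hlt : X.subgroupOf R < ⊤ := by
      rw [lt_top_iff_ne_top]
      intro h
      rw [subgroupOf_eq_top] at h
      exact hne (le_antisymm h hXR)
    haveI := hR.isNilpotent
    have h1 := Group.normalizerCondition_of_isNilpotent (G := R) _ hlt
    obtain ⟨g, hg, hgX⟩ := SetLike.exists_of_lt h1
    apply hgX
    rw [mem_subgroupOf]
    have h2 : (g : Y) * x₀ * (g : Y)⁻¹ ∈ X := by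
      have := (mem_normalizer_iff.mp hg ⟨x₀, hXR hx₀⟩).mp (by
        rw [mem_subgroupOf]; exact hx₀)
      rw [mem_subgroupOf] at this
      exact this
    obtain ⟨y, hy, a, ha, e⟩ := hTI x₀ hx₀ hx₀1 g h2
    have haR : a ∈ R := by
      have : a = y⁻¹ * g := by rw [e]; group
      rw [this]
      exact mul_mem (inv_mem (hXR hy)) g.2
    have ha1 : a = 1 := by
      obtain ⟨k, hk⟩ := hR ⟨a, haR⟩
      have hk' : a ^ p ^ k = 1 := by simpa using congrArg Subtype.val hk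
      have := Hall.mem_of_pow_mem_of_coprime (K := (⊥ : Subgroup Y)) (x := a) (a := p ^ k) (b := Nat.card A)
        (by rw [hk']; exact one_mem _) (by rw [Hall.pow_card_of_mem ha]; exact one_mem _) (hA.pow_left k)
      exact mem_bot.mp this
    rw [e, ha1, mul_one]; exact hy
  let S : Sylow p Y := ⟨X, hX, hmax⟩
  have hfoc := Subgroup.commutator_inf_eq_focalSubgroup S
  have hfoc' : commutator Y ⊓ X = Subgroup.focalSubgroup X := hfoc
  rw [inf_eq_right.mpr hcomm] at hfoc'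
  set C := cmt X A with hC
  have hCX : C ≤ X := cmt_le_left hAX
  -- `C` is normal in `X`
  have hCn : X ≤ normalizer (C : Set Y) := by
    have key : ∀ x ∈ X, ∀ c ∈ C, x * c * x⁻¹ ∈ C := by
      intro x hx c hc
      rw [hC] at hc ⊢
      unfold cmt at hc ⊢
      induction hc using closure_induction with
      | mem z hz =>
        obtain ⟨t, ht, a, ha, rfl⟩ := hz
        have e : x * (t * a * t⁻¹ * a⁻¹) * x⁻¹ = ((x * t) * a * (x * t)⁻¹ * a⁻¹) * (x * a * x⁻¹ * a⁻¹)⁻¹ := by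
          group
        rw [e]
        exact mul_mem (subset_closure ⟨x * t, mul_mem hx ht, a, ha, rfl⟩)
          (inv_mem (subset_closure ⟨x, hx, a, ha, rfl⟩))
      | one => simp [one_mem]
      | mul a b _ _ h1 h2 =>
        have e : x * (a * b) * x⁻¹ = (x * a * x⁻¹) * (x * b * x⁻¹) := by group
        rw [e]; exact mul_mem h1 h2
      | inv a _ h1 =>
        have e : x * a⁻¹ * x⁻¹ = (x * a * x⁻¹)⁻¹ := by group
        rw [e]; exact inv_mem h1
    intro x hx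
    rw [mem_normalizer_iff]
    intro c
    refine ⟨key x hx c, fun h => ?_⟩
    have := key x⁻¹ (inv_mem hx) _ h
    simpa [mul_assoc] using this
  have hle : X ≤ C ⊔ ⁅X, X⁆ := by
    conv_lhs => rw [hfoc']
    rw [Subgroup.focalSubgroup_def, Subgroup.closure_le]
    rintro g ⟨hg, x, hx, u, rfl⟩
    rw [SetLike.mem_coe]
    rcases eq_or_ne x 1 with rfl | hx1
    · rw [commutatorElement_one_left]; exact one_mem _
    have hy : u * x * u⁻¹ ∈ X := by
      have h1 : (⁅x, u⁆)⁻¹ * x ∈ X := mul_mem (inv_mem hg) hx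
      have h2 : (⁅x, u⁆)⁻¹ * x = u * x * u⁻¹ := by
        rw [commutatorElement_def]; group
      rwa [h2] at h1
    obtain ⟨y, hyX, a, ha, rfl⟩ := hTI x hx hx1 u hy
    have hx' : a * x * a⁻¹ ∈ X := (mem_normalizer_iff.mp (hAX ha) x).mp hx
    have e : ⁅x, y * a⁆ = (x * a * x⁻¹ * a⁻¹) * ⁅a * x * a⁻¹, y⁆ := by
      rw [commutatorElement_def, commutatorElement_def]; group
    rw [e]
    exact mul_mem (mem_sup_left (subset_closure ⟨x, hx, a, ha, rfl⟩))
      (mem_sup_right (commutator_mem_commutator hx' hyX))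
  -- `X / C` is perfect and solvable
  haveI hn : (C.subgroupOf X).Normal := by
    constructor
    intro c hc g
    rw [mem_subgroupOf] at hc ⊢
    have := (mem_normalizer_iff.mp (hCn g.2) (c : Y)).mp hc
    simpa using this
  haveI := hX.isNilpotent
  by_contra hnot
  have hnt : Nontrivial (X ⧸ C.subgroupOf X) := by
    rw [QuotientGroup.nontrivial_iff]
    intro h
    rw [subgroupOf_eq_top] at h
    exact hnot h
  have hlt := Group.IsSolvable.commutator_lt_top_of_nontrivial (X ⧸ C.subgroupOf X)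
  apply hlt.ne
  rw [eq_top_iff]
  intro z _
  obtain ⟨x, rfl⟩ := QuotientGroup.mk'_surjective (C.subgroupOf X) z
  obtain ⟨d, hd, c, hc, e⟩ := Solvable.Glauberman.exists_mul_of_mem_sup C ⁅X, X⁆
    (hCX.trans (by
      intro g hg
      rw [mem_normalizer_iff]
      have key : ∀ g ∈ X, ∀ h ∈ ⁅X, X⁆, g * h * g⁻¹ ∈ ⁅X, X⁆ := by
        intro g hg h hh
        have hhX : h ∈ X := (Subgroup.commutator_le_self X) hh
        have e : g * h * g⁻¹ = ⁅g, h⁆ * h := by rw [commutatorElement_def]; group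
        rw [e]
        exact mul_mem (commutator_mem_commutator hg hhX) hh
      intro h
      refine ⟨key g hg h, fun h' => ?_⟩
      have := key g⁻¹ (inv_mem hg) _ h'
      simpa [mul_assoc] using this)) (hle x.2)
  have hdX : d ∈ X := (Subgroup.commutator_le_self X) hd
  have hcX : c ∈ X := hCX hc
  have ex : x = ⟨d, hdX⟩ * ⟨c, hcX⟩ := Subtype.ext e
  have h1 : (QuotientGroup.mk' (C.subgroupOf X)) ⟨c, hcX⟩ = 1 := by
    rw [QuotientGroup.mk'_apply, QuotientGroup.eq_one_iff, mem_subgroupOf]; exact hc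
  rw [ex, map_mul, h1, mul_one]
  have h2 : (⟨d, hdX⟩ : X) ∈ commutator X := by
    have h3 : ⁅X, X⁆ = (commutator X).map X.subtype := by rw [map_subtype_commutator]
    rw [h3] at hd
    obtain ⟨d', hd', e'⟩ := hd
    have : (⟨d, hdX⟩ : X) = d' := Subtype.ext e'.symm
    rw [this]; exact hd'
  have h4 := mem_map_of_mem (QuotientGroup.mk' (C.subgroupOf X)) h2
  rw [_root_.commutator_def, Subgroup.map_commutator] at h4
  exact Subgroup.commutator_mono le_top le_top h4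

/-- The subgroup `⟨U, A⟩ K` -/
theorem mem_sup_three {B U A K : Subgroup G} (hU : U ≤ B) (hA : A ≤ B) (hUn : B ≤ normalizer (U : Set G))
    (hKn : B ≤ normalizer (K : Set G)) {x : G} (hx : x ∈ U ⊔ A ⊔ K) :
    ∃ u ∈ U, ∃ a ∈ A, ∃ k ∈ K, x = u * a * k := by
  obtain ⟨k, hk, y, hy, rfl⟩ := Solvable.Glauberman.exists_mul_of_mem_sup (U ⊔ A) K ((sup_le hU hA).trans hKn) hx
  rw [sup_comm] at hy
  obtain ⟨u, hu, a, ha, rfl⟩ := Solvable.Glauberman.exists_mul_of_mem_sup A U (hA.trans hUn) hy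
  have hn : (u * a)⁻¹ ∈ normalizer (K : Set G) := inv_mem (hKn (mul_mem (hU hu) (hA ha)))
  refine ⟨u, hu, a, ha, (u * a)⁻¹ * k * ((u * a)⁻¹)⁻¹, (mem_normalizer_iff.mp hn k).mp hk, by group⟩

/-- **(G1) for a perfect factor**: `L` is a subgroup of `P` with `U ≤ L K`, `U ≤ L' K`, `L ⊓ B ≤ U A K` where `A ≤ L ⊓ B` is a
`p'`-group; `U` is regular on the chambers `≠ B` of `P / B` modulo `K`. -/
theorem Torus.of_perfect [Finite G] {p : ℕ} [Fact p.Prime] {B P U A K L : Subgroup G} {n : G}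
    (hBP : B ≤ P) (hKB : K ≤ B) (hKP : P ≤ normalizer (K : Set G)) (hLP : L ≤ P)
    (hUB : U ≤ B) (hUp : IsPGroup p U) (hUn : B ≤ normalizer (U : Set G))
    (hAL : A ≤ L) (hAB : A ≤ B) (hAp : p.Coprime (Nat.card A)) (hLB : L ⊓ B ≤ U ⊔ A ⊔ K)
    (hpan : ∀ x ∈ P, x ∉ B → ∃ u ∈ U, (u * n)⁻¹ * x ∈ B)
    (hreg : ∀ u ∈ U, n⁻¹ * u * n ∈ B → u ∈ K) (hperf : U ≤ ⁅L, L⁆ ⊔ K) : Torus B P U A K n where
  K_le := hKB
  K_norm := hKP
  reg := hreg
  A_le := hAB
  gen := by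
    have hKBn : B ≤ normalizer (K : Set G) := hBP.trans hKP
    set E := L ⊔ K with hE
    have hLE : L ≤ E := le_sup_left
    have hKE : K ≤ E := le_sup_right
    have hEP : E ≤ P := sup_le hLP (hKB.trans hBP)
    have hUE : U ≤ E := hperf.trans (sup_le_sup_right (Subgroup.commutator_le_self L) K)
    have hAE : A ≤ E := hAL.trans hLE
    have hEB : ∀ g ∈ E, g ∈ B → ∃ u ∈ U, ∃ a ∈ A, ∃ k ∈ K, g = u * a * k := by
      intro g hg hgB
      obtain ⟨k, hk, l, hl, rfl⟩ := Solvable.Glauberman.exists_mul_of_mem_sup L K (hLP.trans hKP) hg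
      have hlB : l ∈ B := by
        have := mul_mem (inv_mem (hKB hk)) hgB
        rwa [inv_mul_cancel_left] at this
      exact mem_sup_three hUB hAB hUn hKBn (mul_mem (mem_sup_right hk) (hLB ⟨hl, hlB⟩))
    haveI hKN : (K.subgroupOf E).Normal := by
      constructor
      intro c hc g
      rw [mem_subgroupOf] at hc ⊢
      have := (mem_normalizer_iff.mp (hKP (hEP g.2)) (c : G)).mp hc
      simpa using this
    set π := QuotientGroup.mk' (K.subgroupOf E) with hπ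
    have hπs : Function.Surjective π := QuotientGroup.mk'_surjective _
    have hker : ∀ e : E, π e = 1 ↔ (e : G) ∈ K := by
      intro e
      rw [hπ, QuotientGroup.mk'_apply, QuotientGroup.eq_one_iff, mem_subgroupOf]
    have heq : ∀ e f : E, π e = π f ↔ (f : G)⁻¹ * (e : G) ∈ K := by
      intro e f
      have := hker (f⁻¹ * e)
      rw [map_mul, map_inv, inv_mul_eq_one] at this
      rw [eq_comm, this]
      simp
    set X : Subgroup (E ⧸ K.subgroupOf E) := (U.subgroupOf E).map π with hX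
    set A' : Subgroup (E ⧸ K.subgroupOf E) := (A.subgroupOf E).map π with hA'
    have hXU : ∀ u (hu : u ∈ U), π ⟨u, hUE hu⟩ ∈ X := fun u hu =>
      mem_map_of_mem π (by rw [mem_subgroupOf]; exact hu)
    have hAA : ∀ a (ha : a ∈ A), π ⟨a, hAE ha⟩ ∈ A' := fun a ha =>
      mem_map_of_mem π (by rw [mem_subgroupOf]; exact ha)
    have hXp : IsPGroup p X := by
      rintro ⟨x, hx⟩
      obtain ⟨u, hu, rfl⟩ := mem_map.mp hx
      obtain ⟨k, hk⟩ := hUp ⟨(u : G), hu⟩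
      refine ⟨k, Subtype.ext ?_⟩
      have h1 : (u : G) ^ p ^ k = 1 := by simpa using congrArg Subtype.val hk
      have h2 : u ^ p ^ k = 1 := Subtype.ext (by simpa using h1)
      simp only [SubmonoidClass.mk_pow, OneMemClass.coe_one]
      rw [← map_pow, h2, map_one]
    have hA'p : p.Coprime (Nat.card A') := by
      have h1 : Nat.card A' ∣ Nat.card (A.subgroupOf E) := Subgroup.card_map_dvd _ _
      have h2 : Nat.card (A.subgroupOf E) = Nat.card A := by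
        exact Nat.card_congr (Subgroup.subgroupOfEquivOfLe hAE).toEquiv
      rw [h2] at h1
      exact Nat.Coprime.coprime_dvd_right h1 hAp
    have hA'X : A' ≤ normalizer (X : Set _) := by
      have key : ∀ a ∈ A', ∀ x ∈ X, a * x * a⁻¹ ∈ X := by
        rintro _ ⟨a, ha, rfl⟩ _ ⟨u, hu, rfl⟩
        refine ⟨a * u * a⁻¹, ?_, by simp⟩
        rw [SetLike.mem_coe, mem_subgroupOf] at hu ha ⊢
        have := (mem_normalizer_iff.mp (hUn (hAB ha)) (u : G)).mp hu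
        simpa using this
      intro a ha
      rw [mem_normalizer_iff]
      intro x
      refine ⟨key a ha x, fun h => ?_⟩
      have := key a⁻¹ (inv_mem ha) _ h
      simpa [mul_assoc] using this
    have hTI : ∀ x ∈ X, x ≠ 1 → ∀ g, g * x * g⁻¹ ∈ X → ∃ y ∈ X, ∃ a ∈ A', g = y * a := by
      rintro _ ⟨u, hu, rfl⟩ hx1 g hg
      obtain ⟨e, rfl⟩ := hπs g
      rw [SetLike.mem_coe, mem_subgroupOf] at hu
      have huK : (u : G) ∉ K := fun h => hx1 ((hker u).mpr h)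
      have h1 : (e : G) * u * (e : G)⁻¹ ∈ B := by
        obtain ⟨v, hv, h⟩ := hg
        rw [SetLike.mem_coe, mem_subgroupOf] at hv
        rw [← map_inv, ← map_mul, ← map_mul, eq_comm, heq] at h
        have h2 : (e : G) * u * (e : G)⁻¹ = v * ((v : G)⁻¹ * ((e * u * e⁻¹ : E) : G)) := by simp
        rw [h2]
        exact mul_mem (hUB hv) (hKB h)
      have h3 : (e : G) ∈ B := by
        by_contra hnot
        have h4 : (e : G)⁻¹ ∉ B := fun h => hnot (by simpa using inv_mem h)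
        obtain ⟨v, hv, hb⟩ := hpan _ (inv_mem (hEP e.2)) h4
        set b := (v * n)⁻¹ * (e : G)⁻¹ with hbdef
        have he : (e : G) = b⁻¹ * (v * n)⁻¹ := by rw [hbdef]; group
        have h5 : n⁻¹ * (v⁻¹ * u * v) * n ∈ B := by
          have e1 : n⁻¹ * (v⁻¹ * u * v) * n = b * ((e : G) * u * (e : G)⁻¹) * b⁻¹ := by
            rw [he]; group
          rw [e1]
          exact mul_mem (mul_mem hb h1) (inv_mem hb)
        have h6 := hreg _ (mul_mem (mul_mem (inv_mem hv) hu) hv) h5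
        apply huK
        have h7 := (mem_normalizer_iff.mp (hKBn (hUB hv)) _).mp h6
        have e2 : v * (v⁻¹ * (u : G) * v) * v⁻¹ = u := by group
        rwa [e2] at h7
      obtain ⟨v, hv, a, ha, k, hk, e'⟩ := hEB e e.2 h3
      refine ⟨_, hXU v hv, _, hAA a ha, ?_⟩
      rw [← map_mul, heq]
      have e3 : (((⟨v, hUE hv⟩ * ⟨a, hAE ha⟩ : E) : G))⁻¹ * (e : G) = k := by
        rw [e']; simp [mul_assoc]
      rw [e3]; exact hk
    have hXc : X ≤ _root_.commutator (E ⧸ K.subgroupOf E) := by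
      rintro _ ⟨u, hu, rfl⟩
      rw [SetLike.mem_coe, mem_subgroupOf] at hu
      have hKc : ⁅L, L⁆ ≤ normalizer (K : Set G) := (Subgroup.commutator_le_self L).trans (hLP.trans hKP)
      obtain ⟨k, hk, c, hc, e⟩ := Solvable.Glauberman.exists_mul_of_mem_sup _ K hKc (hperf hu)
      have hc' : c ∈ ⁅E, E⁆ := Subgroup.commutator_mono hLE hLE hc
      rw [← map_subtype_commutator] at hc'
      obtain ⟨c', hc', rfl⟩ := hc'
      have h1 : π u = π c' := by
        rw [heq, e]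
        have h2 := (mem_normalizer_iff.mp (hKP (hEP (inv_mem c'.2))) k).mp hk
        simpa [mul_assoc] using h2
      rw [h1]
      have h4 := mem_map_of_mem π hc'
      rw [_root_.commutator_def, Subgroup.map_commutator] at h4
      exact Subgroup.commutator_mono le_top le_top h4
    have hmain := le_cmt_of_ti X A' hXp hA'p hA'X hTI hXc
    have hcE : cmt U A ≤ E := (cmt_le_left (hAB.trans hUn)).trans hUE
    have hle : cmt X A' ≤ ((cmt U A).subgroupOf E).map π := by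
      unfold cmt
      rw [closure_le]
      rintro _ ⟨_, ⟨t, ht, rfl⟩, _, ⟨a, ha, rfl⟩, rfl⟩
      rw [SetLike.mem_coe, mem_subgroupOf] at ht ha
      refine ⟨t * a * t⁻¹ * a⁻¹, ?_, by simp⟩
      rw [SetLike.mem_coe, mem_subgroupOf]
      exact subset_closure ⟨t, ht, a, ha, by simp⟩
    intro u hu
    obtain ⟨c, hc, e⟩ := hle (hmain (hXU u hu))
    rw [SetLike.mem_coe, mem_subgroupOf] at hc
    rw [eq_comm, heq] at e
    have : u = c * ((c : G)⁻¹ * u) := by group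
    rw [this]
    exact mul_mem (mem_sup_left hc) (mem_sup_right e)

end Cfsg.Agent.ParSys

end

section


/-!
# Parabolic systems: the pairs whose residue is a product of two rank ones

The fields `poly`, `torus`, `frat` of `ParSys.Sys` for a pair `P`, `Q` which generates a product of two rank ones.
-/

set_option autoImplicit false
set_option linter.style.haveILetI false

namespace Cfsg.Agent.ParSys

open Subgroup

variable {G : Type*} [Group G] {I : Type*}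

theorem SepT.both {B U H Pi Pj : Subgroup G} (h : SepT B U H Pi Pj) (hH : H ≤ normalizer (U : Set G)) :
    ∀ u ∈ U, ∀ v ∈ U, ∃ w ∈ U, u⁻¹ * w ∈ Qk B Pi ∧ v⁻¹ * w ∈ Qk B Pj := by
  intro u hu v hv
  obtain ⟨t, ht, h1, h2⟩ := h U le_rfl hH (fun u hu => ⟨u, hu, by rw [inv_mul_cancel]; exact one_mem _⟩)
    (u⁻¹ * v) (mul_mem (inv_mem hu) hv)
  refine ⟨u * t, mul_mem hu ht, ?_, ?_⟩
  · rw [inv_mul_cancel_left]; exact h1
  · have := inv_mem h2
    have e : v⁻¹ * (u * t) = (t⁻¹ * (u⁻¹ * v))⁻¹ := by group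
    rw [e]; exact this

namespace Digon

variable {B P Q : Subgroup G}

/-- `P ⊔ Q = P Q` -/
theorem exists_mul (D : Digon B P Q) {g : G} (hg : g ∈ P ⊔ Q) : ∃ a ∈ P, ∃ b ∈ Q, g = a * b := by
  let S : Subgroup G :=
    { carrier := {g | ∃ a ∈ P, ∃ b ∈ Q, g = a * b}
      mul_mem' := by
        rintro _ _ ⟨a, ha, b, hb, rfl⟩ ⟨a', ha', b', hb', rfl⟩
        obtain ⟨c, hc, d, hd, e⟩ := D.symm.comm b hb a' ha'
        refine ⟨a * c, mul_mem ha hc, d * b', mul_mem hd hb', ?_⟩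
        calc a * b * (a' * b') = a * (b * a') * b' := by group
          _ = a * (c * d) * b' := by rw [e]
          _ = a * c * (d * b') := by group
      one_mem' := ⟨1, one_mem _, 1, one_mem _, by simp⟩
      inv_mem' := by
        rintro _ ⟨a, ha, b, hb, rfl⟩
        obtain ⟨c, hc, d, hd, e⟩ := D.symm.comm b⁻¹ (inv_mem hb) a⁻¹ (inv_mem ha)
        exact ⟨c, hc, d, hd, by rw [mul_inv_rev, e]⟩ }
  have h : P ⊔ Q ≤ S := sup_le (fun a ha => ⟨a, ha, 1, one_mem _, by simp⟩)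
    (fun b hb => ⟨1, one_mem _, b, hb, by simp⟩)
  exact h hg

/-- **(b)** the kernel of the digon -/
theorem qk_inf (D : Digon B P Q) {x : G} (h1 : x ∈ Qk B P) (h2 : x ∈ Qk B Q) : x ∈ Qk B (P ⊔ Q) := by
  intro g hg
  obtain ⟨a, ha, b, hb, rfl⟩ := D.exists_mul hg
  obtain ⟨b', hb', a', ha', e⟩ := D.comm a ha b hb
  refine D.inf _ ?_ ?_
  · rw [e]
    have e1 : (b' * a')⁻¹ * x * (b' * a') = a'⁻¹ * (b'⁻¹ * x * b') * a' := by group
    rw [e1]
    exact mul_mem (mul_mem (inv_mem ha') (D.left (h2 b' hb'))) ha'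
  · have e1 : (a * b)⁻¹ * x * (a * b) = b⁻¹ * (a⁻¹ * x * a) * b := by group
    rw [e1]
    exact mul_mem (mul_mem (inv_mem hb) (D.right (h1 a ha))) hb

/-- the field `frat` of `Sys` -/
theorem frat (D : Digon B P Q) {U T : Subgroup G}
    (h : ∀ u ∈ U, ∃ t ∈ T, t⁻¹ * u ∈ Qk B P ∧ t⁻¹ * u ∈ Qk B Q) :
    ∀ u ∈ U, ∃ t ∈ T, t⁻¹ * u ∈ Qk B (P ⊔ Q) := by
  intro u hu
  obtain ⟨t, ht, h1, h2⟩ := h u hu
  exact ⟨t, ht, D.qk_inf h1 h2⟩

variable {R : I → Subgroup G} {i j : I}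

theorem uniq_two (D : Digon B (R i) (R j)) (l l' : List G) (hl : GalE B R (alt i j 2) l)
    (hl' : GalE B R (alt i j 2) l') (h : l.prod⁻¹ * l'.prod ∈ B) : Same B 1 1 l l' := by
  match l, l', hl, hl' with
  | [x, y], [x', y'], hl, hl' =>
    have hx : x ∈ R i := hl.1.1
    have hy : y ∈ R j := hl.2.1.1
    have hx' : x' ∈ R i := hl'.1.1
    have hy' : y' ∈ R j := hl'.2.1.1
    have h1 : (x * y)⁻¹ * (x' * y') ∈ B := by simpa using h
    have h2 : x⁻¹ * x' ∈ B := by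
      refine D.inf _ (mul_mem (inv_mem hx) hx') ?_
      have e : x⁻¹ * x' = y * ((x * y)⁻¹ * (x' * y')) * y'⁻¹ := by group
      rw [e]
      exact mul_mem (mul_mem hy (D.right h1)) (inv_mem hy')
    refine ⟨by simp [one_mem], ?_, ?_⟩
    · simpa using h2
    · show (1 * x * y)⁻¹ * (1 * x' * y') ∈ B
      rw [one_mul, one_mul]; exact h1
  | [], _, hl, _ => exact hl.elim
  | [_], _, hl, _ => exact hl.2.elim
  | _ :: _ :: _ :: _, _, hl, _ => exact hl.2.2.elim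
  | _, [], _, hl' => exact hl'.elim
  | _, [_], _, hl' => exact hl'.2.elim
  | _, _ :: _ :: _ :: _, _, hl' => exact hl'.2.2.elim

/-- the first factor of `x y = b a` is not in `B` -/
theorem first_not_mem (D : Digon B P Q) {x y b a : G} (hx : x ∈ P) (hy : y ∈ Q) (hyB : y ∉ B) (ha : a ∈ P)
    (e : x * y = b * a) : b ∉ B := by
  intro h
  apply hyB
  refine D.inf _ ?_ hy
  have : y = x⁻¹ * (b * a) := by rw [← e]; group
  rw [this]
  exact mul_mem (inv_mem hx) (mul_mem (D.left h) ha)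

theorem trans_two (D : Digon B (R i) (R j)) {U : Subgroup G} (hU : U ≤ B) (hi : Hall.HallData.PTr B U (R i))
    (hj : Hall.HallData.PTr B U (R j))
    (hw : ∀ u ∈ U, ∀ v ∈ U, ∃ w ∈ U, u⁻¹ * w ∈ Qk B (R i) ∧ v⁻¹ * w ∈ Qk B (R j)) (l l' : List G)
    (hl : GalE B R (alt i j 2) l) (hl' : GalE B R (alt i j 2) l') : ∃ y ∈ B, Same B y 1 l l' := by
  match l, l', hl, hl' with
  | [x, y], [x', y'], hl, hl' =>
    obtain ⟨⟨hx, hxB⟩, ⟨hy, hyB⟩, -⟩ := hl
    obtain ⟨⟨hx', hxB'⟩, ⟨hy', hyB'⟩, -⟩ := hl'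
    obtain ⟨b, hb, a, ha, e⟩ := D.comm x hx y hy
    obtain ⟨b', hb', a', ha', e'⟩ := D.comm x' hx' y' hy'
    have hbB : b ∉ B := D.first_not_mem hx hy hyB ha e
    have hbB' : b' ∉ B := D.first_not_mem hx' hy' hyB' ha' e'
    obtain ⟨u, hu, c, hc, hx2⟩ := hi x hx hxB x' hx' hxB'
    obtain ⟨v, hv, d, hd, hb2⟩ := hj b hb hbB b' hb' hbB'
    obtain ⟨w, hwU, h1, h2⟩ := hw u hu v hv
    have h3 : (w * x)⁻¹ * x' ∈ B := by
      have h4 := inv_mem (h1 x hx)
      have e1 : (w * x)⁻¹ * x' = (x⁻¹ * (u⁻¹ * w) * x)⁻¹ * c := by rw [hx2]; group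
      rw [e1]; exact mul_mem h4 hc
    have h4 : (w * b)⁻¹ * b' ∈ B := by
      have h5 := inv_mem (h2 b hb)
      have e1 : (w * b)⁻¹ * b' = (b⁻¹ * (v⁻¹ * w) * b)⁻¹ * d := by rw [hb2]; group
      rw [e1]; exact mul_mem h5 hd
    refine ⟨w, hU hwU, ?_, ?_, ?_⟩
    · rw [mul_one]; exact inv_mem (hU hwU)
    · rw [one_mul]; exact h3
    · show (w * x * y)⁻¹ * (1 * x' * y') ∈ B
      rw [one_mul]
      refine D.inf _ ?_ ?_
      · have e1 : (w * x * y)⁻¹ * (x' * y') = a⁻¹ * ((w * b)⁻¹ * b') * a' := by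
          rw [e', mul_assoc w, e]; group
        rw [e1]
        exact mul_mem (mul_mem (inv_mem ha) (D.left h4)) ha'
      · have e1 : (w * x * y)⁻¹ * (x' * y') = y⁻¹ * ((w * x)⁻¹ * x') * y' := by group
        rw [e1]
        exact mul_mem (mul_mem (inv_mem hy) (D.right h3)) hy'
  | [], _, hl, _ => exact hl.elim
  | [_], _, hl, _ => exact hl.2.elim
  | _ :: _ :: _ :: _, _, hl, _ => exact hl.2.2.elim
  | _, [], _, hl' => exact hl'.elim
  | _, [_], _, hl' => exact hl'.2.elim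
  | _, _ :: _ :: _ :: _, _, hl' => exact hl'.2.2.elim

/-- **(a)** a digon with a sufficiently transitive group is a generalised `2`-gon. -/
theorem polygon (D : Digon B (R i) (R j)) {U : Subgroup G} (hU : U ≤ B) (hi : Hall.HallData.PTr B U (R i))
    (hj : Hall.HallData.PTr B U (R j))
    (hw : ∀ u ∈ U, ∀ v ∈ U, ∃ w ∈ U, u⁻¹ * w ∈ Qk B (R i) ∧ v⁻¹ * w ∈ Qk B (R j))
    (hPi : ∃ x ∈ R i, x ∉ B) (hPj : ∃ x ∈ R j, x ∉ B) : Polygon B R i j 2 where
  uniq := D.uniq_two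
  uniq' := D.symm.uniq_two
  swap := by
    obtain ⟨x, hx, hxB⟩ := hPi
    obtain ⟨y, hy, hyB⟩ := hPj
    obtain ⟨b, hb, a, ha, e⟩ := D.comm x hx y hy
    have hbB : b ∉ B := D.first_not_mem hx hy hyB ha e
    have haB : a ∉ B := D.symm.first_not_mem (x := b⁻¹) (y := x) (b := a) (a := y⁻¹) (inv_mem hb) hx hxB
      (inv_mem hy) (by
        have : x = b * a * y⁻¹ := by rw [← e]; group
        rw [this]; group)
    refine ⟨[x, y], [b, a], ⟨⟨hx, hxB⟩, ⟨hy, hyB⟩, trivial⟩, ⟨⟨hb, hbB⟩, ⟨ha, haB⟩, trivial⟩, ?_⟩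
    have e1 : [x, y].prod⁻¹ * [b, a].prod = 1 := by
      simp only [List.prod_cons, List.prod_nil, mul_one]
      rw [← e, inv_mul_cancel]
    rw [e1]; exact one_mem _
  trans := D.trans_two hU hi hj hw
  trans' := D.symm.trans_two hU hj hi (fun u hu v hv => by
    obtain ⟨w, hwU, h1, h2⟩ := hw v hv u hu
    exact ⟨w, hwU, h2, h1⟩)

end Digon

/-- two panels with transitive groups are equal or meet in `B` -/
theorem inf_of_ptr {B P Q U : Subgroup G} (hP : B ≤ P) (hQ : B ≤ Q) (hU : U ≤ B)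
    (hi : Hall.HallData.PTr B U P) (hj : Hall.HallData.PTr B U Q) (hPi : ∃ x ∈ P, x ∉ B) (hPj : ∃ x ∈ Q, x ∉ B)
    (hne : P ≠ Q) : ∀ x ∈ P, x ∈ Q → x ∈ B := by
  obtain ⟨x, hx, hxB⟩ := hPi
  obtain ⟨y, hy, hyB⟩ := hPj
  refine inf_of_pan hP hQ hU (n := x) (n' := y) ?_ ?_ hne
  · intro z hz hzB
    obtain ⟨u, hu, b, hb, e⟩ := hi x hx hxB z hz hzB
    refine ⟨u, hu, ?_⟩
    have : (u * x)⁻¹ * z = b := by rw [e]; group
    rw [this]; exact hb
  · intro z hz hzB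
    obtain ⟨u, hu, b, hb, e⟩ := hj y hy hyB z hz hzB
    refine ⟨u, hu, ?_⟩
    have : (u * y)⁻¹ * z = b := by rw [e]; group
    rw [this]; exact hb

/-- **The torus of the second factor**: `A ≤ M ⊓ H` with `U ≤ [U, A] Q j` gives `SepT`. -/
theorem Pair.sepT {B U H P Q L M A : Subgroup G} (D : Pair B P Q L M) (hU : U ≤ B) (hH : H ≤ B)
    (hAM : A ≤ M) (hAH : A ≤ H) (hgen : U ≤ cmt U A ⊔ Qk B Q) : SepT B U H P Q := by
  intro T hTU hTH hcov
  have hTB := hTU.trans hU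
  have hcT : cmt T A ≤ T := cmt_le_left (hAH.trans hTH)
  have hK : ∀ b ∈ B, ∀ k ∈ Qk B Q, b * k * b⁻¹ ∈ Qk B Q := fun b hb k hk => Qk_conj' hk (D.right hb)
  have hKn : B ≤ normalizer (Qk B Q : Set G) := by
    intro b hb
    rw [mem_normalizer_iff]
    intro k
    refine ⟨hK b hb k, fun h => ?_⟩
    have := hK b⁻¹ (inv_mem hb) _ h
    simpa [mul_assoc] using this
  have hle : cmt U A ≤ cmt T A ⊔ Qk B Q := by
    unfold cmt
    rw [closure_le]
    rintro _ ⟨u, hu, a, ha, rfl⟩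
    obtain ⟨t, ht, hk⟩ := hcov u hu
    set k := t⁻¹ * u with hkd
    have hu' : u = t * k := by rw [hkd]; group
    rw [hu']
    have e : t * k * a * (t * k)⁻¹ * a⁻¹ =
        (t * (k * (a * k⁻¹ * a⁻¹)) * t⁻¹) * (t * a * t⁻¹ * a⁻¹) := by group
    rw [SetLike.mem_coe, e]
    refine mul_mem (mem_sup_right ?_) (mem_sup_left (subset_closure ⟨t, ht, a, ha, rfl⟩))
    exact hK t (hTB ht) _ (mul_mem hk (hK a (hH (hAH ha)) _ (inv_mem hk)))
  intro u hu
  have hu2 : u ∈ cmt T A ⊔ Qk B Q := (hgen.trans (sup_le hle le_sup_right)) hu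
  obtain ⟨k, hk, c, hc, rfl⟩ := Solvable.Glauberman.exists_mul_of_mem_sup (cmt T A) (Qk B Q)
    ((hcT.trans hTB).trans hKn) hu2
  refine ⟨c, hcT hc, ?_, ?_⟩
  · intro x hx
    exact D.symm.fix (cmt_le_right hAM (hTB.trans D.normM) hc) (hTB (hcT hc)) hx
  · have := hK c⁻¹ (inv_mem (hTB (hcT hc))) k hk
    have e : c⁻¹ * (k * c) = c⁻¹ * k * (c⁻¹)⁻¹ := by group
    rw [e]; exact this

/-- For `M` normal in a finite group, `|M : M ∩ H|` divides `|B : H|`. -/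
theorem relIndex_dvd_index {X : Type*} [Group X] [Finite X] (H M : Subgroup X) [M.Normal] :
    H.relIndex M ∣ H.index := by
  obtain ⟨c, hc⟩ := Subgroup.relIndex_dvd_index_of_normal M H
  have h1 := Subgroup.card_mul_index H
  have h2 := Subgroup.card_mul_index M
  have h3 := Subgroup.card_mul_index (H.subgroupOf M)
  have h4 := Subgroup.card_mul_index (M.subgroupOf H)
  have h5 : Nat.card (H.subgroupOf M) = Nat.card (M.subgroupOf H) := by
    rw [← Subgroup.card_subtype M (H.subgroupOf M), ← Subgroup.card_subtype H (M.subgroupOf H),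
      Subgroup.subgroupOf_map_subtype, Subgroup.subgroupOf_map_subtype, inf_comm]
  change Nat.card (H.subgroupOf M) * H.relIndex M = Nat.card M at h3
  change Nat.card (M.subgroupOf H) * M.relIndex H = Nat.card H at h4
  refine ⟨c, ?_⟩
  have h6 : Nat.card H * H.index = Nat.card H * (H.relIndex M * c) := by
    rw [h1, ← h2, hc, ← h3, ← h4, h5]; ring
  exact Nat.eq_of_mul_eq_mul_left Nat.card_pos h6

/-- `M ≤ R (M ∩ H)` if `M` is normal in `B` and `|M : M ∩ R|` is prime to `p`. -/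
theorem le_sup_inf_hall [Finite G] {p : ℕ} [Fact p.Prime] {B U H : Subgroup G} (hall : Hall.HallData p B U H)
    {M R : Subgroup G} (hM : M ≤ B) (hMn : B ≤ normalizer (M : Set G)) (hR : ¬ p ∣ R.relIndex M) :
    M ≤ R ⊔ (M ⊓ H) := by
  -- `|B : H|` is a power of `p`
  have h1 : ∃ k, H.relIndex B = p ^ k := by
    obtain ⟨k, hk⟩ := hall.index
    have h2 : H.relIndex (U ⊔ H) * (U ⊔ H).relIndex B = H.relIndex B :=
      Subgroup.relIndex_mul_relIndex _ _ _ le_sup_right (sup_le hall.U_le hall.H_le)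
    have h3 : H.relIndex (U ⊔ H) ∣ Nat.card U := by
      have hc := Subgroup.card_mul_index (H.subgroupOf (U ⊔ H))
      change Nat.card (H.subgroupOf (U ⊔ H)) * H.relIndex (U ⊔ H) = _ at hc
      have hH : Nat.card (H.subgroupOf (U ⊔ H)) = Nat.card H :=
        Nat.card_congr (Subgroup.subgroupOfEquivOfLe le_sup_right).toEquiv
      rw [hH] at hc
      -- `|U H| ∣ |U| |H|`
      have hs : Nat.card (U ⊔ H : Subgroup G) ≤ Nat.card H * Nat.card U := by
        have hsurj : Function.Surjective (fun z : H × U => (⟨z.2 * z.1,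
            mul_mem (mem_sup_left z.2.2) (mem_sup_right z.1.2)⟩ : (U ⊔ H : Subgroup G))) := by
          rintro ⟨x, hx⟩
          rw [sup_comm] at hx
          obtain ⟨u, hu, a, ha, e⟩ := Solvable.Glauberman.exists_mul_of_mem_sup H U hall.H_norm_U hx
          exact ⟨(⟨a, ha⟩, ⟨u, hu⟩), Subtype.ext e.symm⟩
        calc Nat.card (U ⊔ H : Subgroup G) ≤ Nat.card (H × U) := Nat.card_le_card_of_surjective _ hsurj
          _ = _ := Nat.card_prod _ _
      have hdU : Nat.card U ∣ Nat.card (U ⊔ H : Subgroup G) := Subgroup.card_dvd_of_le le_sup_left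
      have hdH : Nat.card H ∣ Nat.card (U ⊔ H : Subgroup G) := Subgroup.card_dvd_of_le le_sup_right
      have hd : Nat.card H * Nat.card U ∣ Nat.card (U ⊔ H : Subgroup G) :=
        Nat.Coprime.mul_dvd_of_dvd_of_dvd hall.card_cop hdH hdU
      have he : Nat.card (U ⊔ H : Subgroup G) = Nat.card H * Nat.card U :=
        le_antisymm hs (Nat.le_of_dvd Nat.card_pos hd)
      rw [he] at hc
      rw [Nat.eq_of_mul_eq_mul_left Nat.card_pos hc]
    obtain ⟨l, hl⟩ := (IsPGroup.iff_card (p := p)).mp hall.U_pgroup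
    rw [hl] at h3
    obtain ⟨r, -, hr⟩ := (Nat.dvd_prime_pow Fact.out).1 h3
    exact ⟨r + k, by rw [← h2, hr, hk, pow_add]⟩
  obtain ⟨k, hk⟩ := h1
  -- `|M : M ∩ H|` is a power of `p`
  have h2 : H.relIndex M ∣ p ^ k := by
    rw [← hk]
    haveI : (M.subgroupOf B).Normal := by
      constructor
      intro c hc g
      rw [mem_subgroupOf] at hc ⊢
      have := (mem_normalizer_iff.mp (hMn g.2) (c : G)).mp hc
      simpa using this
    have h3 := relIndex_dvd_index (H.subgroupOf B) (M.subgroupOf B)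
    rwa [Subgroup.relIndex_subgroupOf hM] at h3
  have h3 : (R ⊔ (M ⊓ H)).relIndex M ∣ p ^ k := by
    refine dvd_trans ?_ h2
    have := Subgroup.relIndex_dvd_of_le_left M (le_sup_right : M ⊓ H ≤ R ⊔ (M ⊓ H))
    rwa [Subgroup.inf_relIndex_left] at this
  have h4 : (R ⊔ (M ⊓ H)).relIndex M ∣ R.relIndex M := Subgroup.relIndex_dvd_of_le_left M le_sup_left
  rw [← Subgroup.relIndex_eq_one]
  obtain ⟨r, -, hr⟩ := (Nat.dvd_prime_pow Fact.out).1 h3
  rcases Nat.eq_zero_or_pos r with h0 | h0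
  · rw [hr, h0, pow_zero]
  · exact absurd (dvd_trans (hr ▸ dvd_pow_self p h0.ne') h4) hR

/-- **A product with a perfect second factor**: the field `torus`. -/
theorem Pair.sepT_of_perfect [Finite G] {p : ℕ} [Fact p.Prime] {B U H P Q L M : Subgroup G}
    (hall : Hall.HallData p B U H) (D : Pair B P Q L M) (hj : Hall.HallData.PTr B U Q) (hPj : ∃ x ∈ Q, x ∉ B)
    (hreg : ∀ u ∈ U, ∀ g ∈ Q, g ∉ B → g⁻¹ * u * g ∈ B → u ∈ Qk B Q)
    (hperf : U ≤ ⁅M, M⁆ ⊔ Qk B Q) (hsyl : ¬ p ∣ (U ⊔ Qk B Q).relIndex (M ⊓ B)) : SepT B U H P Q := by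
  obtain ⟨n, hn, hnB⟩ := hPj
  have hK : ∀ b ∈ Q, ∀ k ∈ Qk B Q, b * k * b⁻¹ ∈ Qk B Q := fun b hb k hk => Qk_conj' hk hb
  have hKn : Q ≤ normalizer (Qk B Q : Set G) := by
    intro b hb
    rw [mem_normalizer_iff]
    intro k
    refine ⟨hK b hb k, fun h => ?_⟩
    have := hK b⁻¹ (inv_mem hb) _ h
    simpa [mul_assoc] using this
  have hMBn : B ≤ normalizer ((M ⊓ B : Subgroup G) : Set G) := by
    intro b hb
    have key : ∀ b ∈ B, ∀ x ∈ M ⊓ B, b * x * b⁻¹ ∈ M ⊓ B := fun b hb x hx =>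
      mem_inf.2 ⟨(mem_normalizer_iff.mp (D.normM hb) x).mp (mem_inf.1 hx).1,
        mul_mem (mul_mem hb (mem_inf.1 hx).2) (inv_mem hb)⟩
    rw [mem_normalizer_iff]
    intro x
    refine ⟨key b hb x, fun h => ?_⟩
    have := key b⁻¹ (inv_mem hb) _ h
    simpa [mul_assoc] using this
  have hle := le_sup_inf_hall hall (inf_le_right : M ⊓ B ≤ B) hMBn hsyl
  have hA : M ⊓ B ⊓ H = M ⊓ H := by rw [inf_assoc, inf_eq_right.2 hall.H_le]
  rw [hA] at hle
  have hT := Torus.of_perfect (p := p) (P := Q) (K := Qk B Q) (L := M) (A := M ⊓ H) (n := n) D.right (Qk_le B Q) hKn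
    D.M_le hall.U_le hall.U_pgroup hall.U_norm inf_le_left (inf_le_right.trans hall.H_le)
    (Nat.Coprime.coprime_dvd_right (Subgroup.card_dvd_of_le inf_le_right) hall.H_cop)
    (hle.trans (by
      rw [sup_assoc, sup_assoc, sup_comm (M ⊓ H)]))
    (by
      intro x hx hxB
      obtain ⟨u, hu, b, hb, e⟩ := hj n hn hnB x hx hxB
      refine ⟨u, hu, ?_⟩
      have : (u * n)⁻¹ * x = b := by rw [e]; group
      rw [this]; exact hb)
    (fun u hu h => hreg u hu n hn hnB h) hperf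
  exact D.sepT hall.U_le hall.H_le inf_le_left inf_le_right hT.gen

/-- **Products of two rank ones, the second factor perfect**: the fields `poly`, `torus` and `frat` of `Sys`. -/
theorem Pair.fields [Finite G] {p : ℕ} [Fact p.Prime] {B U H L M : Subgroup G} {R : I → Subgroup G} {i j : I}
    (hall : Hall.HallData p B U H) (D : Pair B (R i) (R j) L M) (hne : R i ≠ R j)
    (hi : Hall.HallData.PTr B U (R i)) (hj : Hall.HallData.PTr B U (R j))
    (hPi : ∃ x ∈ R i, x ∉ B) (hPj : ∃ x ∈ R j, x ∉ B)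
    (hreg : ∀ u ∈ U, ∀ g ∈ R j, g ∉ B → g⁻¹ * u * g ∈ B → u ∈ Qk B (R j))
    (hperf : U ≤ ⁅M, M⁆ ⊔ Qk B (R j)) (hsyl : ¬ p ∣ (U ⊔ Qk B (R j)).relIndex (M ⊓ B)) :
    Polygon B R i j 2 ∧ SepT B U H (R i) (R j) ∧
      ∀ T ≤ U, H ≤ normalizer (T : Set G) →
        (∀ u ∈ U, ∃ t ∈ T, t⁻¹ * u ∈ Qk B (R i) ∧ t⁻¹ * u ∈ Qk B (R j)) →
          ∀ u ∈ U, ∃ t ∈ T, t⁻¹ * u ∈ Qk B (R i ⊔ R j) := by
  have hD := D.digon (inf_of_ptr D.left D.right hall.U_le hi hj hPi hPj hne)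
  have hS := D.sepT_of_perfect hall hj hPj hreg hperf hsyl
  exact ⟨hD.polygon hall.U_le hi hj (hS.both hall.H_norm_U) hPi hPj, hS, fun T _ _ h => hD.frat h⟩

/-- If `B = U H`, the condition on the Sylow subgroups in `Pair.fields` holds. -/
theorem not_dvd_relIndex_of_le [Finite G] {p : ℕ} [Fact p.Prime] {B U H R M : Subgroup G}
    (hall : Hall.HallData p B U H) (hB : B ≤ U ⊔ H) (hM : M ≤ B) (hR : U ≤ R) : ¬ p ∣ R.relIndex M := by
  intro h
  have h1 : R.relIndex M ∣ U.relIndex M := Subgroup.relIndex_dvd_of_le_left M hR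
  haveI : (U.subgroupOf B).Normal := by
    constructor
    intro c hc g
    rw [mem_subgroupOf] at hc ⊢
    have := (mem_normalizer_iff.mp (hall.U_norm g.2) (c : G)).mp hc
    simpa using this
  have h2 : U.relIndex M ∣ U.relIndex B := by
    have := Subgroup.relIndex_dvd_index_of_normal (U.subgroupOf B) (M.subgroupOf B)
    rwa [Subgroup.relIndex_subgroupOf hM] at this
  have h3 : ¬ p ∣ U.relIndex B := by
    intro h4
    obtain ⟨x, hx⟩ := exists_prime_orderOf_dvd_card' (G := B ⧸ U.subgroupOf B) p h4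
    obtain ⟨b, rfl⟩ := QuotientGroup.mk'_surjective (U.subgroupOf B) x
    have h5 : (b : G) ^ (Nat.card H) ∈ U := hall.pow_card_mem (hB b.2)
    have h6 : (QuotientGroup.mk' (U.subgroupOf B) b) ^ (Nat.card H) = 1 := by
      rw [← map_pow, QuotientGroup.mk'_apply, QuotientGroup.eq_one_iff, mem_subgroupOf]
      simpa using h5
    have h7 := orderOf_dvd_of_pow_eq_one h6
    rw [hx] at h7
    have h8 := Nat.Coprime.eq_one_of_dvd hall.H_cop h7
    exact (Fact.out : p.Prime).one_lt.ne' h8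
  exact h3 (dvd_trans h (dvd_trans h1 h2))

end Cfsg.Agent.ParSys

end

end

-- merged: Cfsg.Agent.Mrg.ParSys.FrontSys
section

/-!
# THEOREM PAR, front end: from local data to `Sys`
-/

set_option autoImplicit false

namespace Cfsg.Agent.ParSys

open Subgroup

variable {G : Type*} [Group G] {I : Type*}

/-- a `p'`-element of `B` which centralises `U / Q i` and acts fixed-point-freely on `U / Q j` -/
def SepG (p : ℕ) (B U : Subgroup G) (Pi Pj : Subgroup G) : Prop :=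
  ∃ b ∈ B, (∃ k : ℕ, p.Coprime k ∧ b ^ k = 1) ∧ (∀ u ∈ U, b * u * b⁻¹ * u⁻¹ ∈ Qk B Pi) ∧
    ∀ u ∈ U, b * u * b⁻¹ * u⁻¹ ∈ Qk B Pj → u ∈ Qk B Pj

/-- a `p'`-element of `B` which acts fixed-point-freely on `U / Q i` -/
def FpfG (p : ℕ) (B U : Subgroup G) (Pi : Subgroup G) : Prop :=
  ∃ b ∈ B, (∃ k : ℕ, p.Coprime k ∧ b ^ k = 1) ∧ ∀ u ∈ U, b * u * b⁻¹ * u⁻¹ ∈ Qk B Pi → u ∈ Qk B Pi

open Pointwise in
/-- A `p'`-element of `B = U H` is conjugate into `H` under `U`. -/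
theorem exists_conj_mem [Finite G] {p : ℕ} [hp : Fact p.Prime] {B U H : Subgroup G}
    (D : Hall.HallData p B U H) {b : G} (hb : b ∈ B) {k : ℕ} (hk : p.Coprime k) (hbk : b ^ k = 1) :
    ∃ u ∈ U, u * b * u⁻¹ ∈ H := by
  set K : Subgroup G := zpowers b with hK
  have hKB : K ≤ B := by rw [hK, zpowers_le]; exact hb
  have hKc : p.Coprime (Nat.card K) := by
    rw [hK, Nat.card_zpowers]
    exact Nat.Coprime.coprime_dvd_right (orderOf_dvd_of_pow_eq_one hbk) hk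
  have hKs := D.le_sup hKB hKc
  have hHN := D.H_norm_U
  have hKN : K ≤ normalizer (U : Set G) := hKB.trans D.U_norm
  -- the complement `K' = H ∩ U K`
  set K' : Subgroup G := H ⊓ (U ⊔ K) with hK'
  have hK'H : K' ≤ H := inf_le_left
  have hK'N : K' ≤ normalizer (U : Set G) := hK'H.trans hHN
  have hKK' : K ≤ U ⊔ K' := by
    intro x hx
    have h1 := hKs hx
    rw [sup_comm] at h1
    obtain ⟨u, hu, a, ha, rfl⟩ := Solvable.Glauberman.exists_mul_of_mem_sup H U hHN h1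
    refine mul_mem (Subgroup.mem_sup_left hu) (Subgroup.mem_sup_right (mem_inf.2 ⟨ha, ?_⟩))
    have h2 : u * a ∈ U ⊔ K := Subgroup.mem_sup_right hx
    have h3 := mul_mem (inv_mem (Subgroup.mem_sup_left hu : u ∈ U ⊔ K)) h2
    rwa [inv_mul_cancel_left] at h3
  have hK'K : K' ≤ U ⊔ K := inf_le_right
  have hcU : ∀ L : Subgroup G, p.Coprime (Nat.card L) → Disjoint U L := by
    intro L hL
    obtain ⟨a, ha⟩ := (IsPGroup.iff_card (p := p)).mp D.U_pgroup
    apply Subgroup.disjoint_of_coprime_natCard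
    rw [ha]; exact hL.pow_left a
  have hK'c : p.Coprime (Nat.card K') := Nat.Coprime.coprime_dvd_right (Subgroup.card_dvd_of_le hK'H) D.H_cop
  have hsup : U ⊔ K = U ⊔ K' := le_antisymm (sup_le le_sup_left hKK') (sup_le le_sup_left hK'K)
  have hcard : ∀ L : Subgroup G, L ≤ normalizer (U : Set G) → Disjoint U L →
      Nat.card ↥(U ⊔ L) = Nat.card U * Nat.card L := by
    intro L hL hd
    rw [← Nat.card_prod]
    symm
    apply Nat.card_congr
    refine Equiv.ofBijective (fun z : U × L => (⟨(z.1 : G) * z.2, mul_mem (Subgroup.mem_sup_left z.1.2)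
      (Subgroup.mem_sup_right z.2.2)⟩ : ↥(U ⊔ L))) ⟨?_, ?_⟩
    · rintro ⟨u, l⟩ ⟨u', l'⟩ h
      have h1 : (u : G) * l = u' * l' := congrArg Subtype.val h
      have h2 : (u' : G)⁻¹ * u = l' * (l : G)⁻¹ := by
        rw [inv_mul_eq_iff_eq_mul, ← mul_assoc, ← h1, mul_inv_cancel_right]
      have h3 : (u' : G)⁻¹ * u ∈ U ⊓ L := mem_inf.2 ⟨mul_mem (inv_mem u'.2) u.2, by
        rw [h2]; exact mul_mem l'.2 (inv_mem l.2)⟩
      rw [disjoint_iff.1 hd, Subgroup.mem_bot] at h3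
      have h4 : (u : G) = u' := (inv_mul_eq_one.1 h3).symm
      have h5 : (l : G) = l' := by
        rw [h3] at h2
        exact (mul_inv_eq_one.1 h2.symm).symm
      exact Prod.ext (Subtype.ext h4) (Subtype.ext h5)
    · rintro ⟨x, hx⟩
      rw [sup_comm] at hx
      obtain ⟨u, hu, a, ha, rfl⟩ := Solvable.Glauberman.exists_mul_of_mem_sup L U hL hx
      exact ⟨(⟨u, hu⟩, ⟨a, ha⟩), rfl⟩
  have hcards : Nat.card K = Nat.card K' := by
    have h1 := hcard K hKN (hcU K hKc)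
    have h2 := hcard K' hK'N (hcU K' hK'c)
    rw [hsup, h2] at h1
    exact (Nat.eq_of_mul_eq_mul_left Nat.card_pos h1).symm
  obtain ⟨u, hu, h⟩ := Solvable.Glauberman.exists_conj_of_le_sup K' U hK'N
    (Nat.Coprime.coprime_dvd_left (Subgroup.card_dvd_of_le hK'H) D.card_cop) (Or.inr D.U_solvable) K
    (by rw [sup_comm]; exact hKK') hcards
  refine ⟨u⁻¹, inv_mem hu, hK'H ?_⟩
  have h1 : b ∈ MulAut.conj u • K' := by rw [h]; exact mem_zpowers b
  rw [Subgroup.mem_smul_pointwise_iff_exists] at h1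
  obtain ⟨c, hc, h2⟩ := h1
  rw [MulAut.smul_def, MulAut.conj_apply] at h2
  rw [← h2]
  have e : u⁻¹ * (u * c * u⁻¹) * u⁻¹⁻¹ = c := by group
  rwa [e]

theorem sep_of_sepG [Finite G] {p : ℕ} [hp : Fact p.Prime] {B U H : Subgroup G}
    (D : Hall.HallData p B U H) {Pi Pj : Subgroup G} (hi : B ≤ Pi) (hj : B ≤ Pj) (h : SepG p B U Pi Pj) :
    Sep B U H Pi Pj := by
  obtain ⟨b, hb, ⟨k, hk, hbk⟩, h1, h2⟩ := h
  obtain ⟨u, hu, hh⟩ := exists_conj_mem D hb hk hbk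
  have huB := D.U_le hu
  have key : ∀ v ∈ U, u * b * u⁻¹ * v * (u * b * u⁻¹)⁻¹ * v⁻¹ =
      u * (b * (u⁻¹ * v * u) * b⁻¹ * (u⁻¹ * v * u)⁻¹) * u⁻¹ := by intro v _; group
  have hv : ∀ v ∈ U, u⁻¹ * v * u ∈ U := fun v hv => mul_mem (mul_mem (inv_mem hu) hv) hu
  refine ⟨_, hh, fun v hv' => ?_, fun v hv' h3 => ?_⟩
  · rw [key v hv']
    exact Qk_conj' (h1 _ (hv v hv')) (hi huB)
  · rw [key v hv'] at h3
    have h4 := Qk_conj h3 (hj huB)
    have e : u⁻¹ * (u * (b * (u⁻¹ * v * u) * b⁻¹ * (u⁻¹ * v * u)⁻¹) * u⁻¹) * u =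
        b * (u⁻¹ * v * u) * b⁻¹ * (u⁻¹ * v * u)⁻¹ := by group
    rw [e] at h4
    have h5 := Qk_conj' (h2 _ (hv v hv') h4) (hj huB)
    have e2 : u * (u⁻¹ * v * u) * u⁻¹ = v := by group
    rwa [e2] at h5

theorem fix_of_fpfG [Finite G] {p : ℕ} [hp : Fact p.Prime] {B U H : Subgroup G}
    (D : Hall.HallData p B U H) {Pi : Subgroup G} (hi : B ≤ Pi) (h : FpfG p B U Pi) :
    ∀ c ∈ U, c ∈ centralizer (H : Set G) → c ∈ Qk B Pi := by
  obtain ⟨b, hb, ⟨k, hk, hbk⟩, h2⟩ := h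
  obtain ⟨u, hu, hh⟩ := exists_conj_mem D hb hk hbk
  have huB := D.U_le hu
  intro c hc hcC
  rw [Subgroup.mem_centralizer_iff] at hcC
  have h3 := hcC _ hh
  have h4 : b * (u⁻¹ * c * u) * b⁻¹ * (u⁻¹ * c * u)⁻¹ = 1 := by
    have e : b * (u⁻¹ * c * u) * b⁻¹ * (u⁻¹ * c * u)⁻¹ =
        u⁻¹ * (u * b * u⁻¹ * c * (u * b * u⁻¹)⁻¹ * c⁻¹) * u := by group
    rw [e, h3]; group
  have h5 := h2 (u⁻¹ * c * u) (mul_mem (mul_mem (inv_mem hu) hc) hu) (by rw [h4]; exact one_mem _)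
  have h6 := Qk_conj' h5 (hi huB)
  have e2 : u * (u⁻¹ * c * u) * u⁻¹ = c := by group
  rwa [e2] at h6

/-- **From local data to a parabolic system with tori.** -/
theorem Front.sys [Nonempty I] [Finite G] {p : ℕ} [hp : Fact p.Prime] {U : Subgroup G} {E : I → Subgroup G}
    {m : I → I → ℕ} (D : Front p U E) (gen : ⨆ i, E i = ⊤)
    (three : ∀ i, ∃ x ∈ Pa U E i, ∃ y ∈ Pa U E i, x ∉ Bo U E ∧ y ∉ Bo U E ∧ x⁻¹ * y ∉ Bo U E)
    (ptr : ∀ i, Hall.HallData.PTr (Bo U E) U (Pa U E i))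
    (reg : ∀ i, ∀ u ∈ U, ∀ g ∈ Pa U E i, g ∉ Bo U E → g⁻¹ * u * g ∈ Bo U E → u ∈ Qk (Bo U E) (Pa U E i))
    (fpf : ∀ i, FpfG p (Bo U E) U (Pa U E i))
    (m_two : ∀ i j, i ≠ j → 2 ≤ m i j) (m_symm : ∀ i j, m i j = m j i)
    (poly : ∀ i j, i ≠ j → Polygon (Bo U E) (Pa U E) i j (m i j))
    (torus : ∀ i j, i ≠ j → SepG p (Bo U E) U (Pa U E i) (Pa U E j) ∨ SepG p (Bo U E) U (Pa U E j) (Pa U E i))
    (frat : ∀ i j, i ≠ j → ∀ T ≤ U,
      (∀ u ∈ U, ∃ t ∈ T, t⁻¹ * u ∈ Qk (Bo U E) (Pa U E i) ∧ t⁻¹ * u ∈ Qk (Bo U E) (Pa U E j)) →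
      ∀ u ∈ U, ∃ t ∈ T, t⁻¹ * u ∈ Qk (Bo U E) (Pa U E i ⊔ Pa U E j)) :
    ∃ H : Subgroup G, Sys p (Bo U E) U H (Pa U E) m := by
  obtain ⟨H, hall, -⟩ := D.exists_hall
  exact ⟨H, {
    hall := hall
    gen := by
      rw [eq_top_iff, ← gen]
      exact iSup_mono fun i => Front.E_le_Pa i
    le := Front.Bo_le_Pa
    three := three
    ptr := ptr
    reg := reg
    fix := fun i => fix_of_fpfG hall (Front.Bo_le_Pa i) (fpf i)
    m_two := m_two
    m_symm := m_symm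
    poly := poly
    torus := fun i j hij => (torus i j hij).imp
      (fun h => (sep_of_sepG hall (Front.Bo_le_Pa i) (Front.Bo_le_Pa j) h).sepT hall (Front.Bo_le_Pa j))
      (fun h => (sep_of_sepG hall (Front.Bo_le_Pa j) (Front.Bo_le_Pa i) h).sepT hall (Front.Bo_le_Pa i))
    frat := fun i j hij T hT _ h => frat i j hij T hT h }⟩

end Cfsg.Agent.ParSys

end
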